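import Cfsg.Prelude.Def_Classical
import Mathlib

/-!
Standard homomorphisms into the classical groups: permutation matrices, `SL(2)` blocks,
and `GL(m)` on the hyperbolic part of the symplectic and orthogonal spaces.
-/

set_option autoImplicit false

namespace Cfsg.Agent.H62

open Matrix
open scoped MatrixGroups

section Basic

variable {ι : Type} [Fintype ι] [DecidableEq ι] {F : Type*} [CommRing F]

/-- Permutation matrices as a monoid homomorphism. -/
def permMatHom : Equiv.Perm ι →* Matrix ι ι F where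
  toFun σ := Matrix.of fun i j => if i = σ j then 1 else 0
  map_one' := by ext i j; simp [Matrix.one_apply]; congr
  map_mul' σ τ := by
    ext i j
    rw [Matrix.mul_apply, Finset.sum_eq_single (τ j)]
    · simp; congr
    · intro x _ hx
      simp [hx]
    · simp

theorem permMatHom_injective [Nontrivial F] : Function.Injective (permMatHom : Equiv.Perm ι → Matrix ι ι F) := by
  intro σ τ h
  ext j
  have h1 := congrArg (fun M : Matrix ι ι F => M (σ j) j) h
  simp [permMatHom] at h1
  exact h1

theorem permMatHom_det (σ : Equiv.Perm ι) :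
    (permMatHom σ : Matrix ι ι F).det = ((Equiv.Perm.sign σ : ℤ) : F) := by
  have h : (permMatHom σ : Matrix ι ι F) = (σ.permMatrix F)ᵀ := by
    ext i j; simp [permMatHom, PEquiv.toMatrix_apply, eq_comm]
  rw [h, det_transpose, det_permutation]

theorem permMatHom_mulVec (σ : Equiv.Perm ι) (u : ι → F) :
    (permMatHom σ : Matrix ι ι F) *ᵥ u = u ∘ σ.symm := by
  ext i
  simp [permMatHom, Matrix.mulVec, dotProduct, ← Equiv.symm_apply_eq]

/-- Even permutations as matrices of determinant one. -/
def altSLHom : alternatingGroup ι →* SpecialLinearGroup ι F where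
  toFun σ := ⟨permMatHom (σ : Equiv.Perm ι), by
    rw [permMatHom_det, Equiv.Perm.mem_alternatingGroup.1 σ.2]; simp⟩
  map_one' := Subtype.ext (by simp)
  map_mul' σ τ := Subtype.ext (map_mul permMatHom (σ : Equiv.Perm ι) (τ : Equiv.Perm ι))

theorem altSLHom_injective [Nontrivial F] :
    Function.Injective (altSLHom : alternatingGroup ι → SpecialLinearGroup ι F) :=
  fun _ _ h => Subtype.ext (permMatHom_injective (congrArg Subtype.val h))

/-- The upper left block inclusion, at the level of matrices. -/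
def blockHom (a k : ℕ) : Matrix (Fin a) (Fin a) F →* Matrix (Fin (a + k)) (Fin (a + k)) F where
  toFun M := Matrix.reindexAlgEquiv F F finSumFinEquiv (fromBlocks M 0 0 1)
  map_one' := by rw [fromBlocks_one, map_one]
  map_mul' M N := by rw [← map_mul, fromBlocks_multiply]; simp

theorem blockHom_injective (a k : ℕ) :
    Function.Injective (blockHom a k : Matrix (Fin a) (Fin a) F → _) :=
  fun _ _ h => (fromBlocks_inj.1 ((Matrix.reindexAlgEquiv F F finSumFinEquiv).injective h)).1

theorem blockHom_det (a k : ℕ) (M : Matrix (Fin a) (Fin a) F) : (blockHom a k M).det = M.det := by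
  rw [blockHom, MonoidHom.coe_mk, OneHom.coe_mk, Matrix.reindexAlgEquiv_apply, det_reindex_self,
    det_fromBlocks_zero₂₁, det_one, mul_one]

theorem blockHom_transpose_mul_map (a k : ℕ) (M : Matrix (Fin a) (Fin a) F) (φ : F →+* F)
    (h : Mᵀ * M.map φ = 1) : (blockHom a k M)ᵀ * (blockHom a k M).map φ = 1 := by
  have e1 : (blockHom a k M)ᵀ = blockHom a k Mᵀ := by
    simp [blockHom, fromBlocks_transpose]
  have e2 : (blockHom a k M).map φ = blockHom a k (M.map φ) := by
    ext i j
    obtain ⟨i, rfl⟩ := finSumFinEquiv.surjective i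
    obtain ⟨j, rfl⟩ := finSumFinEquiv.surjective j
    rcases i with i | i <;> rcases j with j | j <;> simp [blockHom, Matrix.one_apply, apply_ite φ]
  rw [e1, e2, ← map_mul, h, map_one]

/-- The upper left block inclusion of special linear groups. -/
def slBlockHom (a k : ℕ) :
    SpecialLinearGroup (Fin a) F →* SpecialLinearGroup (Fin (a + k)) F where
  toFun g := ⟨blockHom a k g.1, by rw [blockHom_det]; exact g.2⟩
  map_one' := Subtype.ext (by simp)
  map_mul' g h := Subtype.ext (map_mul (blockHom a k) g.1 h.1)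

theorem slBlockHom_injective (a k : ℕ) :
    Function.Injective (slBlockHom a k : SpecialLinearGroup (Fin a) F → _) :=
  fun _ _ h => Subtype.ext (blockHom_injective a k (congrArg Subtype.val h))

/-- `A ↦ diag(A, A^{-T})` on the hyperbolic part. -/
def hypMat : GL ι F →* Matrix (ι ⊕ ι) (ι ⊕ ι) F where
  toFun A := fromBlocks (A : Matrix ι ι F) 0 0 ((A⁻¹ : GL ι F) : Matrix ι ι F)ᵀ
  map_one' := by simp
  map_mul' A B := by
    rw [fromBlocks_multiply, _root_.mul_inv_rev, Units.val_mul, Units.val_mul, transpose_mul]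
    simp

theorem hypMat_injective : Function.Injective (hypMat : GL ι F → Matrix (ι ⊕ ι) (ι ⊕ ι) F) :=
  fun _ _ h => Units.ext (fromBlocks_inj.1 h).1

theorem hyp_dot (A : GL ι F) (x y : ι → F) :
    ((A : Matrix ι ι F) *ᵥ x) ⬝ᵥ (((A⁻¹ : GL ι F) : Matrix ι ι F)ᵀ *ᵥ y) = x ⬝ᵥ y := by
  rw [dotProduct_mulVec, vecMul_transpose, mulVec_mulVec, ← Units.val_mul, inv_mul_cancel,
    Units.val_one, one_mulVec]

end Basic

section Forms

variable {F : Type*} [Field F] (m : ℕ)

theorem sum_hypMat_mulVec (A : GL (Fin m) F) (u : Fin m ⊕ Fin m → F) :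
    ∑ i, (hypMat A *ᵥ u) (.inl i) * (hypMat A *ᵥ u) (.inr i) = ∑ i, u (.inl i) * u (.inr i) := by
  simpa [hypMat, fromBlocks_mulVec, dotProduct, Function.comp_def] using
    hyp_dot A (fun i => u (.inl i)) (fun i => u (.inr i))

/-- `GL(m)` inside the symplectic group of degree `2m`. -/
def glToSp : GL (Fin m) F →* symplecticGroup (Fin m) F where
  toFun A := ⟨hypMat A, by
    rw [SymplecticGroup.mem_iff]
    simp only [hypMat, MonoidHom.coe_mk, OneHom.coe_mk, J, fromBlocks_transpose, fromBlocks_multiply,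
      transpose_zero, transpose_transpose]
    simp [← transpose_mul, ← Units.val_mul]⟩
  map_one' := Subtype.ext (map_one hypMat)
  map_mul' A B := Subtype.ext (map_mul hypMat A B)

theorem glToSp_injective : Function.Injective (glToSp m : GL (Fin m) F → _) :=
  fun _ _ h => hypMat_injective (congrArg Subtype.val h)

/-- `GL(m)` inside the isometry group of the form of plus type. -/
def glToPlus : GL (Fin m) F →* isometryGroup F (quadFormPlus m F) :=
  (hypMat.toHomUnits).codRestrict _ fun A u _ => by simpa [quadFormPlus] using sum_hypMat_mulVec m A u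

theorem glToPlus_injective : Function.Injective (glToPlus m : GL (Fin m) F → _) :=
  fun _ _ h => hypMat_injective (congrArg (fun g => g.1.1) h)

/-- Hyperbolic part plus a fixed line. -/
def oddMat : GL (Fin m) F →* Matrix (Unit ⊕ (Fin m ⊕ Fin m)) (Unit ⊕ (Fin m ⊕ Fin m)) F where
  toFun A := fromBlocks 1 0 0 (hypMat A)
  map_one' := by simp
  map_mul' A B := by rw [fromBlocks_multiply]; simp

/-- `GL(m)` inside the isometry group of the form of odd dimension. -/
def glToOdd : GL (Fin m) F →* isometryGroup F (quadFormOdd m F) :=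
  ((oddMat m).toHomUnits).codRestrict _ fun A u _ => by
    have h := sum_hypMat_mulVec m A (u ∘ Sum.inr)
    simpa [quadFormOdd, oddMat, fromBlocks_mulVec] using h

theorem glToOdd_injective : Function.Injective (glToOdd m : GL (Fin m) F → _) :=
  fun _ _ h => hypMat_injective (fromBlocks_inj.1 (congrArg (fun g => g.1.1) h)).2.2.2

/-- Hyperbolic part plus a fixed plane. -/
def minusMat : GL (Fin m) F →*
    Matrix ((Fin m ⊕ Fin m) ⊕ Fin 2) ((Fin m ⊕ Fin m) ⊕ Fin 2) F where
  toFun A := fromBlocks (hypMat A) 0 0 1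
  map_one' := by simp
  map_mul' A B := by rw [fromBlocks_multiply]; simp

/-- `GL(m)` inside the isometry group of the form of minus type. -/
def glToMinus (a b : F) : GL (Fin m) F →* isometryGroup F (quadFormMinus m F a b) :=
  ((minusMat m).toHomUnits).codRestrict _ fun A u _ => by
    have h := sum_hypMat_mulVec m A (u ∘ Sum.inl)
    simpa [quadFormMinus, minusMat, fromBlocks_mulVec] using h

theorem glToMinus_injective (a b : F) : Function.Injective (glToMinus m a b : GL (Fin m) F → _) :=
  fun _ _ h => hypMat_injective (fromBlocks_inj.1 (congrArg (fun g => g.1.1) h)).1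

variable {m}

theorem toGL_injective' {ι : Type} [Fintype ι] [DecidableEq ι] :
    Function.Injective (SpecialLinearGroup.toGL : SpecialLinearGroup ι F → GL ι F) :=
  fun _ _ h => Subtype.ext (congrArg Units.val h)

end Forms

section Unitary

variable {F : Type*} [Field F]

theorem mem_SU_of_transpose_mul_map {n q : ℕ} (φ : F →+* F) (hφ : ∀ x, φ x = x ^ q)
    (M : SpecialLinearGroup (Fin n) F) (h : M.1ᵀ * M.1.map φ = 1) : M ∈ SU n F q := by
  intro u v
  have key : ∀ a b : Fin n → F, hermForm n F q a b = a ⬝ᵥ (φ ∘ b) := fun a b => by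
    simp [hermForm, dotProduct, hφ]
  have e : φ ∘ (M.1 *ᵥ v) = M.1.map φ *ᵥ (φ ∘ v) := funext fun i => RingHom.map_mulVec φ M.1 v i
  show hermForm n F q (M.1 *ᵥ u) (M.1 *ᵥ v) = hermForm n F q u v
  rw [key, key, e, dotProduct_mulVec, ← vecMul_transpose, vecMul_vecMul, h, vecMul_one]

theorem altSLHom_mem_SU {n q : ℕ} (φ : F →+* F) (hφ : ∀ x, φ x = x ^ q)
    (σ : alternatingGroup (Fin n)) : altSLHom σ ∈ SU n F q := by
  refine mem_SU_of_transpose_mul_map φ hφ _ ?_
  show (permMatHom (σ : Equiv.Perm (Fin n)))ᵀ * (permMatHom (σ : Equiv.Perm (Fin n))).map φ = 1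
  ext i j
  rw [Matrix.mul_apply, Finset.sum_eq_single ((σ : Equiv.Perm (Fin n)) i)]
  · simp [permMatHom, Matrix.one_apply, (Equiv.injective (σ : Equiv.Perm (Fin n))).eq_iff]
  · intro x _ hx
    simp [permMatHom, hx]
  · simp

theorem exists_frobenius_of_card [Fintype F] {q : ℕ} (hq : Fintype.card F = q ^ 2) :
    ∃ φ : F →+* F, (∀ x, φ x = x ^ q) ∧ ∀ x, φ (φ x) = x := by
  obtain ⟨p, hp⟩ := CharP.exists F
  haveI := hp
  obtain ⟨n, hpr, hn⟩ := FiniteField.card F p
  haveI := Fact.mk hpr
  have hd : q ∣ p ^ (n : ℕ) := by rw [← hn, hq]; exact dvd_pow_self q two_ne_zero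
  obtain ⟨k, _, hk⟩ := (Nat.dvd_prime_pow hpr).1 hd
  refine ⟨iterateFrobenius F p k, fun x => by rw [iterateFrobenius_def, hk], fun x => ?_⟩
  rw [iterateFrobenius_def, iterateFrobenius_def, ← hk, ← pow_mul, ← sq, ← hq, FiniteField.pow_card]

/-- The units needed for a hyperbolic basis of the unitary plane. -/
theorem exists_unitary_constants [Fintype F] {q : ℕ} (hq : Fintype.card F = q ^ 2) :
    ∃ α α' δ : F, α ^ (q + 1) = -1 ∧ α' ^ (q + 1) = -1 ∧ α ≠ α' ∧ δ ≠ 0 ∧ δ ^ q = -δ := by
  classical
  have h1 : 1 < q := by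
    have := Fintype.one_lt_card (α := F)
    rw [hq] at this
    by_contra hc
    interval_cases q <;> simp at this
  obtain ⟨g, hg⟩ := IsCyclic.exists_generator (α := Fˣ)
  have hord : orderOf g = q ^ 2 - 1 := by
    rw [orderOf_eq_card_of_forall_mem_zpowers hg, Nat.card_eq_fintype_card, Fintype.card_units, hq]
  have hqq : q ^ 2 - 1 = (q + 1) * (q - 1) := by
    rw [← Nat.sq_sub_sq, one_pow]
  let ζ : Fˣ := g ^ (q - 1)
  have hζ : ζ ^ (q + 1) = 1 := by
    rw [← pow_mul, mul_comm, ← hqq, ← hord, pow_orderOf_eq_one]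
  have hζ1 : ζ ≠ 1 := by
    intro h
    have := Nat.le_of_dvd (by omega) (orderOf_dvd_of_pow_eq_one (x := g) (n := q - 1) h)
    rw [hord, hqq] at this
    have : 1 * (q - 1) < (q + 1) * (q - 1) := Nat.mul_lt_mul_of_pos_right (by omega) (by omega)
    omega
  obtain ⟨a, d, ha, hd⟩ : ∃ a d : Fˣ, a ^ (q + 1) = -1 ∧ d ^ (q - 1) = -1 := by
    by_cases h : (-1 : Fˣ) = 1
    · exact ⟨1, 1, by simp [h], by simp [h]⟩
    · have h2 : orderOf (-1 : Fˣ) = 2 := orderOf_eq_prime (neg_one_sq) h
      have h3 : 2 ∣ orderOf g := by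
        rw [← h2, orderOf_eq_card_of_forall_mem_zpowers hg]
        exact orderOf_dvd_natCard _
      rw [hord] at h3
      have hodd : q % 2 = 1 := by
        rcases Nat.mod_two_eq_zero_or_one q with h4 | h4
        · exfalso
          have : q ^ 2 % 2 = 0 := by rw [Nat.pow_mod, h4]
          have : 1 ≤ q ^ 2 := Nat.one_le_pow _ _ (by omega)
          omega
        · exact h4
      obtain ⟨r, hr⟩ : ∃ r, q = 2 * r + 1 := ⟨q / 2, by omega⟩
      have hmin : g ^ ((q + 1) * r) = -1 := by
        have hsq : (g ^ ((q + 1) * r)) ^ 2 = 1 := by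
          rw [← pow_mul]
          have : (q + 1) * r * 2 = orderOf g := by
            rw [hord, hqq, hr, show 2 * r + 1 - 1 = 2 * r by omega]; ring
          rw [this, pow_orderOf_eq_one]
        have hne : g ^ ((q + 1) * r) ≠ 1 := by
          intro h5
          have h6 := Nat.le_of_dvd (by subst hr; exact Nat.mul_pos (by omega) (by omega))
            (orderOf_dvd_of_pow_eq_one h5)
          rw [hord, hqq] at h6
          have : (q + 1) * r < (q + 1) * (q - 1) := Nat.mul_lt_mul_of_pos_left (by omega) (by omega)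
          omega
        have h7 : (((g ^ ((q + 1) * r) : Fˣ) : F)) ^ 2 = 1 := by rw [← Units.val_pow_eq_pow_val, hsq, Units.val_one]
        rcases sq_eq_one_iff.1 h7 with h8 | h8
        · exact absurd (Units.ext h8) hne
        · exact Units.ext (by simpa using h8)
      refine ⟨g ^ r, g ^ (r + 1), by rw [← pow_mul, mul_comm]; exact hmin, ?_⟩
      rw [← pow_mul, ← hmin]
      congr 1
      subst hr
      rw [show 2 * r + 1 - 1 = 2 * r by omega]; ring
  refine ⟨a, (a * ζ : Fˣ), d, ?_, ?_, ?_, d.ne_zero, ?_⟩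
  · rw [← Units.val_pow_eq_pow_val, ha]; simp
  · rw [← Units.val_pow_eq_pow_val, mul_pow, ha, hζ]; simp
  · intro h
    exact hζ1 (mul_left_cancel (a := a) (by rw [mul_one]; exact (Units.ext h).symm))
  · have : (d : F) ^ q = d ^ (q - 1) * d := by rw [← pow_succ]; congr 1; omega
    rw [this, ← Units.val_pow_eq_pow_val, hd]; simp

/-- The subfield fixed by `φ`. -/
abbrev fixedSub (φ : F →+* F) : Subfield F := RingHom.eqLocusField φ (RingHom.id F)

theorem card_fixedSub [Fintype F] {q : ℕ} (hq : Fintype.card F = q ^ 2) (φ : F →+* F)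
    (hφ : ∀ x, φ x = x ^ q) : q - 1 ≤ Nat.card (fixedSub φ) := by
  classical
  have h1 : 1 < q := by
    have := Fintype.one_lt_card (α := F)
    rw [hq] at this
    by_contra hc
    interval_cases q <;> simp at this
  obtain ⟨g, hg⟩ := IsCyclic.exists_generator (α := Fˣ)
  have hord : orderOf g = q ^ 2 - 1 := by
    rw [orderOf_eq_card_of_forall_mem_zpowers hg, Nat.card_eq_fintype_card, Fintype.card_units, hq]
  have hqq : q ^ 2 - 1 = (q + 1) * (q - 1) := by rw [← Nat.sq_sub_sq, one_pow]
  let h : Fˣ := g ^ (q + 1)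
  have hh : h ^ (q - 1) = 1 := by rw [← pow_mul, ← hqq, ← hord, pow_orderOf_eq_one]
  have hho : orderOf h = q - 1 := by
    rw [orderOf_pow_of_dvd (by omega) (by rw [hord, hqq]; exact dvd_mul_right _ _), hord, hqq,
      Nat.mul_div_cancel_left _ (by omega)]
  let f : Subgroup.zpowers h → fixedSub φ := fun x => ⟨((x : Fˣ) : F), by
    obtain ⟨j, hj⟩ := Subgroup.mem_zpowers_iff.1 x.2
    rw [← hj]
    show φ _ = _
    have hh2 : (h ^ j) ^ (q - 1) = 1 := by
      rw [← zpow_natCast, ← _root_.zpow_mul, mul_comm, _root_.zpow_mul, zpow_natCast, hh, _root_.one_zpow]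
    have hh3 : (((h ^ j : Fˣ) : F)) ^ q = ((h ^ j : Fˣ) : F) := by
      have h4 : (((h ^ j : Fˣ) : F)) ^ (q - 1) = 1 := by
        rw [← Units.val_pow_eq_pow_val, hh2, Units.val_one]
      calc (((h ^ j : Fˣ) : F)) ^ q = (((h ^ j : Fˣ) : F)) ^ (q - 1) * ((h ^ j : Fˣ) : F) := by
            rw [← pow_succ]; congr 1; omega
        _ = _ := by rw [h4, one_mul]
    simpa [hφ] using hh3⟩
  have := Nat.card_le_card_of_injective f
    (fun x y hxy => Subtype.ext (Units.ext (congrArg Subtype.val hxy)))
  rwa [Nat.card_zpowers, hho] at this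

/-- `SL(2, K)` over the fixed field of `φ` embeds in the unitary group of every degree `2 + k`. -/
theorem exists_sl2_to_SU [Fintype F] {q : ℕ} (k : ℕ) (hq : Fintype.card F = q ^ 2) (φ : F →+* F)
    (hφ : ∀ x, φ x = x ^ q) (hφφ : ∀ x, φ (φ x) = x) :
    ∃ ψ : SL(2, fixedSub φ) →* SU (2 + k) F q, Function.Injective ψ := by
  obtain ⟨α, α', δ, hα, hα', hne, hδ, hδq⟩ := exists_unitary_constants hq
  have e1 : α * φ α = -1 := by rw [hφ, ← pow_succ', hα]
  have e2 : α' * φ α' = -1 := by rw [hφ, ← pow_succ', hα']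
  have hc : 1 + φ α * α' ≠ 0 := by
    intro h
    exact hne (by linear_combination α * h - α' * e1)
  set t : F := φ δ / (1 + φ α * α') with ht
  have hδ' : φ δ = -δ := by rw [hφ, hδq]
  have e3 : φ t * (1 + α * φ α') = δ := by
    have h0 : t * (1 + φ α * α') = φ δ := div_mul_cancel₀ _ hc
    simpa [hφφ] using congrArg φ h0
  have e4 : t * (1 + φ α * α') = -δ := by rw [ht, div_mul_cancel₀ _ hc, hδ']
  let P : Matrix (Fin 2) (Fin 2) F := !![1, t; α, t * α']
  have hP : Pᵀ * P.map φ = δ • !![0, 1; -1, 0] := by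
    ext i j
    fin_cases i <;> fin_cases j <;>
      simp [P, Matrix.mul_apply, Fin.sum_univ_two, map_mul]
    · linear_combination e1
    · linear_combination e3
    · linear_combination e4
    · linear_combination (t * φ t) * e2
  have hPdet : IsUnit P.det := by
    rw [isUnit_iff_ne_zero]
    intro h0
    have := congrArg Matrix.det hP
    rw [det_mul, det_transpose, h0, zero_mul] at this
    simp [Matrix.det_fin_two, hδ] at this
  have hPinv := Matrix.mul_nonsing_inv P hPdet
  have hPinv' := Matrix.nonsing_inv_mul P hPdet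
  let inc : SL(2, fixedSub φ) →* SpecialLinearGroup (Fin 2) F :=
    SpecialLinearGroup.map (fixedSub φ).subtype
  have hincφ : ∀ g, ((inc g).1).map φ = (inc g).1 := fun g => by
    ext i j
    exact (g.1 i j).2
  let conjP : SL(2, fixedSub φ) →* SpecialLinearGroup (Fin 2) F :=
    { toFun := fun g => ⟨P * (inc g).1 * P⁻¹, by
        rw [det_conj ((Matrix.isUnit_iff_isUnit_det P).2 hPdet)]; exact (inc g).2⟩
      map_one' := Subtype.ext (by simp [hPinv])
      map_mul' := fun g h => Subtype.ext (by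
        show P * (inc (g * h)).1 * P⁻¹ = (P * (inc g).1 * P⁻¹) * (P * (inc h).1 * P⁻¹)
        rw [map_mul]
        show P * ((inc g).1 * (inc h).1) * P⁻¹ = _
        calc P * ((inc g).1 * (inc h).1) * P⁻¹
            = P * (inc g).1 * (P⁻¹ * P) * (inc h).1 * P⁻¹ := by
              rw [hPinv', Matrix.mul_one]; simp only [Matrix.mul_assoc]
          _ = _ := by simp only [Matrix.mul_assoc]) }
  have hconj : Function.Injective conjP := by
    intro g h hgh
    have h1 := congrArg (fun x : SpecialLinearGroup (Fin 2) F => P⁻¹ * x.1 * P) hgh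
    have e : ∀ M : Matrix (Fin 2) (Fin 2) F, P⁻¹ * (P * M * P⁻¹) * P = M := fun M => by
      calc P⁻¹ * (P * M * P⁻¹) * P = (P⁻¹ * P) * M * (P⁻¹ * P) := by simp only [Matrix.mul_assoc]
        _ = M := by rw [hPinv', Matrix.one_mul, Matrix.mul_one]
    change P⁻¹ * (P * (inc g).1 * P⁻¹) * P = P⁻¹ * (P * (inc h).1 * P⁻¹) * P at h1
    rw [e, e] at h1
    refine Subtype.ext ?_
    ext i j
    have h2 := congrFun (congrFun h1 i) j
    exact h2
  have hmem : ∀ g, slBlockHom 2 k (conjP g) ∈ SU (2 + k) F q := fun g => by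
    refine mem_SU_of_transpose_mul_map φ hφ _ (blockHom_transpose_mul_map 2 k _ φ ?_)
    show (P * (inc g).1 * P⁻¹)ᵀ * (P * (inc g).1 * P⁻¹).map φ = 1
    have hJ : ((inc g).1)ᵀ * (δ • !![(0 : F), 1; -1, 0]) * (inc g).1 = δ • !![0, 1; -1, 0] := by
      have hd : ((inc g).1).det = 1 := (inc g).2
      rw [Matrix.det_fin_two] at hd
      ext i j
      fin_cases i <;> fin_cases j <;>
        simp [Matrix.mul_apply, Fin.sum_univ_two]
      · ring
      · linear_combination δ * hd
      · linear_combination (-δ) * hd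
      · ring
    rw [transpose_mul, transpose_mul, Matrix.map_mul, Matrix.map_mul, hincφ]
    calc (P⁻¹)ᵀ * ((inc g).1ᵀ * Pᵀ) * (P.map φ * (inc g).1 * P⁻¹.map φ)
        = (P⁻¹)ᵀ * ((inc g).1ᵀ * (Pᵀ * P.map φ) * (inc g).1) * P⁻¹.map φ := by
          simp only [Matrix.mul_assoc]
      _ = (P⁻¹)ᵀ * (Pᵀ * P.map φ) * P⁻¹.map φ := by rw [hP, hJ]
      _ = (P * P⁻¹)ᵀ * (P * P⁻¹).map φ := by
          rw [transpose_mul, Matrix.map_mul]; simp only [Matrix.mul_assoc]
      _ = 1 := by rw [hPinv]; simp
  exact ⟨((slBlockHom 2 k).comp conjP).codRestrict _ hmem,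
    fun g h hgh => hconj (slBlockHom_injective 2 k (congrArg Subtype.val hgh))⟩

end Unitary

end Cfsg.Agent.H62
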