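import Mathlib

/-!
Permutation groups containing a cycle of full prime power length `p^k`, `p` odd: a solvable
one preserves the residues modulo a proper power of `p`, or is elementary in degree `p`.
-/

set_option autoImplicit false

namespace Cfsg.Agent.H62.CycleGroup

open Equiv

/-- A nontrivial solvable group has a nontrivial normal abelian subgroup. -/
theorem exists_abelian_normal {G : Type*} [Group G] [Nontrivial G] (h : Group.IsSolvable G) :
    ∃ A : Subgroup G, A.Normal ∧ A ≠ ⊥ ∧ ∀ x ∈ A, ∀ y ∈ A, x * y = y * x := by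
  classical
  obtain ⟨m, hm⟩ := h
  have hex : ∃ m, derivedSeries G m = ⊥ := ⟨m, hm⟩
  have hpos : 0 < Nat.find hex := by
    rw [Nat.find_pos]
    rw [derivedSeries_zero]
    exact top_ne_bot
  obtain ⟨j, hj⟩ : ∃ j, Nat.find hex = j + 1 := ⟨Nat.find hex - 1, by omega⟩
  refine ⟨derivedSeries G j, derivedSeries_normal G j, Nat.find_min hex (by omega), ?_⟩
  intro x hx y hy
  have hz := Subgroup.commutator_mem_commutator hx hy
  rw [← derivedSeries_succ, ← hj, Nat.find_spec hex, Subgroup.mem_bot,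
    commutatorElement_eq_one_iff_mul_comm] at hz
  exact hz

variable {M : Type*} [AddCommGroup M] {p : ℕ}

theorem natCast_end_eq_zero (hMp : ∀ x : M, p • x = 0) : (p : AddMonoid.End M) = 0 := by
  ext x
  simpa using hMp x

theorem end_pow_char (hp : p.Prime) (hMp : ∀ x : M, p • x = 0) (D : AddMonoid.End M) (e : ℕ) :
    (D + 1) ^ (p ^ e) = D ^ (p ^ e) + 1 := by
  obtain ⟨r, hr⟩ := (Commute.one_right D).exists_add_pow_prime_pow_eq hp e
  rw [hr, one_pow]
  simp [natCast_end_eq_zero hMp]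

/-- A unipotent endomorphism of a group of order `p^k` and exponent `p`. -/
theorem nilpotent_bound [Finite M] (hp : p.Prime) {k : ℕ} (hcard : Nat.card M = p ^ k)
    (D : AddMonoid.End M) {e : ℕ} (he : D ^ e = 0) : D ^ k = 0 := by
  let R : ℕ → AddSubgroup M := fun j => AddMonoidHom.range (D ^ j : AddMonoid.End M)
  have hle : ∀ j, R (j + 1) ≤ R j := fun j => by
    rintro _ ⟨x, rfl⟩
    exact ⟨D x, by rw [pow_succ]; rfl⟩
  have hmain : ∀ j ≤ k, R j = ⊥ ∨ Nat.card (R j) * p ^ j ≤ p ^ k := fun j => by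
    induction j with
    | zero =>
      intro _
      right
      rw [pow_zero, mul_one, ← hcard]
      exact Nat.card_le_card_of_injective _ Subtype.val_injective
    | succ j ih =>
      intro hj
      rcases ih (by omega) with h | h
      · exact Or.inl (le_bot_iff.1 (h ▸ hle j))
      by_cases heq : R (j + 1) = R j
      · refine Or.inl (heq.trans (le_bot_iff.1 ?_))
        have hst : ∀ i, R j ≤ R (j + i) := fun i => by
          induction i with
          | zero => exact le_rfl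
          | succ i ih' =>
            intro x hx
            obtain ⟨y, rfl⟩ := heq.ge hx
            obtain ⟨y', hy'⟩ := ih' (⟨y, rfl⟩ : (D ^ j : AddMonoid.End M) y ∈ R j)
            refine ⟨y', ?_⟩
            show (D ^ (j + (i + 1))) y' = (D ^ (j + 1)) y
            rw [← add_assoc, pow_succ', pow_succ']
            exact congrArg D hy'
        intro x hx
        obtain ⟨y, rfl⟩ := hst e hx
        show (D ^ (j + e)) y ∈ (⊥ : AddSubgroup M)
        rw [pow_add, he, mul_zero]
        exact zero_mem _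
      · right
        have hdvd : Nat.card (R (j + 1)) ∣ Nat.card (R j) := AddSubgroup.card_dvd_of_le (hle j)
        have hd : Nat.card (R j) ∣ p ^ k := hcard ▸ AddSubgroup.card_addSubgroup_dvd_card _
        obtain ⟨i, -, hi⟩ := (Nat.dvd_prime_pow hp).1 hd
        obtain ⟨i', hi'le, hi'⟩ := (Nat.dvd_prime_pow hp).1 (hi ▸ hdvd)
        have hlt : i' < i := by
          refine lt_of_le_of_ne hi'le (fun hii => heq ?_)
          exact AddSubgroup.eq_of_le_of_card_ge (hle j) (by rw [hi, hi', hii])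
        rw [hi] at h
        rw [hi', ← pow_add]
        rw [← pow_add] at h
        exact le_trans (Nat.pow_le_pow_right hp.pos (by omega)) h
  have hbot : R k = ⊥ := by
    rcases hmain k le_rfl with h | h
    · exact h
    · refine AddSubgroup.eq_bot_of_card_eq (R k) (le_antisymm ?_ Nat.card_pos)
      exact Nat.le_of_mul_le_mul_right (by rwa [one_mul]) (pow_pos hp.pos k)
  ext x
  have : (D ^ k : AddMonoid.End M) x ∈ R k := ⟨x, rfl⟩
  rw [hbot] at this
  exact this

/-- The linear map `(x, t) ↦ (L x + t, t)`. -/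
def affEnd (L : AddMonoid.End M) : AddMonoid.End (M × M) :=
  AddMonoidHom.prod ((L.comp (AddMonoidHom.fst M M)) + AddMonoidHom.snd M M)
    (AddMonoidHom.snd M M)

theorem affEnd_apply (L : AddMonoid.End M) (x t : M) : affEnd L (x, t) = (L x + t, t) := rfl

/-- An affine map with unipotent linear part in dimension `< p^i` has order dividing `p^i`. -/
theorem affEnd_pow_eq_one (hp : p.Prime) (hMp : ∀ x : M, p • x = 0) {k i : ℕ}
    (L : AddMonoid.End M) (hD : (L - 1) ^ k = 0) (hki : k + 1 ≤ p ^ i) :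
    affEnd L ^ (p ^ i) = 1 := by
  have hMp' : ∀ y : M × M, p • y = 0 := fun y => Prod.ext (hMp y.1) (hMp y.2)
  set D := L - 1 with hDdef
  have hD1 : ∀ x t : M, (affEnd L - 1) (x, t) = (D x + t, 0) := fun x t => by
    show affEnd L (x, t) - (x, t) = _
    rw [affEnd_apply, hDdef]
    show (L x + t - x, t - t) = ((L x - x) + t, 0)
    rw [sub_self, add_sub_right_comm]
  have hpow : ∀ (j : ℕ) (x t : M),
      ((affEnd L - 1) ^ (j + 1)) (x, t) = ((D ^ (j + 1)) x + (D ^ j) t, 0) := fun j => by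
    induction j with
    | zero => intro x t; simpa using hD1 x t
    | succ j ih =>
      intro x t
      rw [pow_succ']
      show (affEnd L - 1) (((affEnd L - 1) ^ (j + 1)) (x, t)) = _
      rw [ih, hD1, map_add, add_zero]
      have hs : ∀ (i : ℕ) (y : M), (D ^ (i + 1)) y = D ((D ^ i) y) := fun i y => by
        rw [pow_succ']; rfl
      rw [hs (j + 1) x, hs j x, hs j t]
  have hzero : (affEnd L - 1) ^ (k + 1) = 0 := AddMonoidHom.ext fun y => by
    show ((affEnd L - 1) ^ (k + 1)) y = 0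
    rw [← Prod.mk.eta (p := y), hpow, pow_succ', hD]
    simp
  calc affEnd L ^ (p ^ i) = ((affEnd L - 1) + 1) ^ (p ^ i) := by rw [sub_add_cancel]
    _ = (affEnd L - 1) ^ (p ^ i) + 1 := end_pow_char hp hMp' _ i
    _ = 1 := by
      obtain ⟨d, hd⟩ := Nat.exists_eq_add_of_le hki
      rw [hd, pow_add, hzero, zero_mul, zero_add]

theorem add_le_pow (hp3 : 3 ≤ p) : ∀ {k : ℕ}, 2 ≤ k → k + 1 ≤ p ^ (k - 1)
  | 2, _ => by simpa using hp3
  | k + 3, _ => by
    have h := add_le_pow hp3 (k := k + 2) (by omega)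
    rw [show k + 3 - 1 = (k + 2 - 1) + 1 by omega, pow_succ]
    nlinarith

/-- Two residue-mixing `p`-elements, one a full cycle, with product not a `p`-element, do not
generate a solvable group. -/
theorem not_solvable_of_cycle {k : ℕ} (hp : p.Prime) (hp3 : 3 ≤ p) (hk : 1 ≤ k)
    (V : Perm (Fin (p ^ k))) (hV : ∃ e, V ^ (p ^ e) = 1)
    (hprim : ∀ i, 1 ≤ i → i < k → ∃ x y : Fin (p ^ k),
      x.val % p ^ i = y.val % p ^ i ∧ (V x).val % p ^ i ≠ (V y).val % p ^ i)
    (hprod : ¬ ∃ e, (finRotate (p ^ k) * V) ^ (p ^ e) = 1) :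
    ¬ Group.IsSolvable (Subgroup.closure ({finRotate (p ^ k), V} : Set (Perm (Fin (p ^ k))))) := by
  intro hsol
  have : Fact p.Prime := ⟨hp⟩
  have : NeZero (p ^ k) := ⟨(pow_pos hp.pos k).ne'⟩
  have ha3 : 3 ≤ p ^ k := hp3.trans (Nat.le_self_pow (by omega) p)
  set U : Perm (Fin (p ^ k)) := finRotate (p ^ k) with hU
  set K := Subgroup.closure ({U, V} : Set (Perm (Fin (p ^ k)))) with hK
  have hUK : U ∈ K := Subgroup.subset_closure (Or.inl rfl)
  have hVK : V ∈ K := Subgroup.subset_closure (Or.inr rfl)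
  have hUval : ∀ (j : ℕ) (x : Fin (p ^ k)), ((U ^ j) x).val = (x.val + j) % p ^ k := fun j => by
    induction j with
    | zero => intro x; simp [Nat.mod_eq_of_lt x.isLt]
    | succ j ih =>
      intro x
      rw [pow_succ', Perm.mul_apply, hU, finRotate_apply, Fin.val_add, ← hU, ih, Fin.val_one',
        Nat.add_mod_mod, Nat.mod_add_mod, Nat.add_assoc]
  have : Nontrivial K := ⟨⟨⟨U, hUK⟩, 1, fun h => by
    have h1 : U = 1 := congrArg Subtype.val h
    have := hUval 1 0
    rw [pow_one, h1, Fin.val_zero] at this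
    simp [Nat.mod_eq_of_lt (show 1 < p ^ k by omega)] at this⟩⟩
  obtain ⟨A₀, hA₀n, hA₀, hA₀c⟩ := exists_abelian_normal hsol
  set A := A₀.map K.subtype with hA
  have hAc : ∀ x ∈ A, ∀ y ∈ A, x * y = y * x := by
    rintro _ ⟨x, hx, rfl⟩ _ ⟨y, hy, rfl⟩
    rw [← map_mul, ← map_mul, hA₀c x hx y hy]
  have hAn : ∀ g ∈ K, ∀ x ∈ A, g * x * g⁻¹ ∈ A := by
    rintro g hg _ ⟨x, hx, rfl⟩
    exact ⟨_, hA₀n.conj_mem x hx ⟨g, hg⟩, rfl⟩
  -- a nontrivial invariant subgroup is transitive
  have htrans : ∀ B : Subgroup (Perm (Fin (p ^ k))), B ≠ ⊥ →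
      (∀ g ∈ K, ∀ x ∈ B, g * x * g⁻¹ ∈ B) → ∀ x : Fin (p ^ k), ∃ b ∈ B, b 0 = x := by
    classical
    intro B hB hBn
    let r : Fin (p ^ k) → Fin (p ^ k) → Prop := fun x y => ∃ b ∈ B, b x = y
    have rinv : ∀ g ∈ K, ∀ x y, r x y → r (g x) (g y) := fun g hg x y ⟨b, hb, hbx⟩ =>
      ⟨g * b * g⁻¹, hBn g hg b hb, by simp [hbx]⟩
    have rtrans : ∀ x y z, r x y → r y z → r x z := fun x y z ⟨b, hb, hbx⟩ ⟨c, hc, hcy⟩ =>
      ⟨c * b, mul_mem hc hb, by simp [hbx, hcy]⟩
    have rsymm : ∀ x y, r x y → r y x := fun x y ⟨b, hb, hbx⟩ =>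
      ⟨b⁻¹, inv_mem hb, by rw [← hbx]; exact b.symm_apply_apply x⟩
    let S : ℕ → Prop := fun j => r 0 ((U ^ j) 0)
    have hS_add : ∀ i j, S i → (S j ↔ S (i + j)) := fun i j hi => by
      have hi' := rinv _ (pow_mem hUK j) _ _ hi
      rw [← Perm.mul_apply, ← pow_add, add_comm] at hi'
      exact ⟨fun hj => rtrans _ _ _ hj hi', fun hij => rtrans _ _ _ hij (rsymm _ _ hi')⟩
    have hSa : S (p ^ k) := ⟨1, one_mem B, Fin.ext (by simp [hUval])⟩
    have hex : ∃ q, 0 < q ∧ S q := ⟨p ^ k, by omega, hSa⟩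
    set q := Nat.find hex
    obtain ⟨hq0, hSq⟩ : 0 < q ∧ S q := Nat.find_spec hex
    have hSmul : ∀ t, S (q * t) := fun t => by
      induction t with
      | zero => exact ⟨1, one_mem B, by simp⟩
      | succ t ih => rw [mul_add, mul_one, add_comm]; exact (hS_add q _ hSq).1 ih
    have hSiff : ∀ j, S j ↔ q ∣ j := fun j => by
      refine ⟨fun hj => ?_, fun ⟨t, ht⟩ => ht ▸ hSmul t⟩
      rw [← Nat.div_add_mod j q] at hj
      have h := (hS_add _ _ (hSmul (j / q))).2 hj
      rcases Nat.eq_zero_or_pos (j % q) with h0 | h0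
      · exact Nat.dvd_of_mod_eq_zero h0
      · exact absurd ⟨h0, h⟩ (Nat.find_min hex (Nat.mod_lt _ hq0))
    obtain ⟨i, hik, hqi⟩ := (Nat.dvd_prime_pow hp).1 ((hSiff _).1 hSa)
    have hriff : ∀ x y : Fin (p ^ k), r x y ↔ x.val % q = y.val % q := fun x y => by
      have hx : (U ^ x.val) 0 = x := Fin.ext (by simp [hUval, Nat.mod_eq_of_lt x.isLt])
      have hd : ∀ d, r x ((U ^ (x.val + d)) 0) ↔ S d := fun d => by
        rw [pow_add, Perm.mul_apply]
        conv_lhs => arg 1; rw [← hx]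
        refine ⟨fun h => ?_, fun h => rinv _ (pow_mem hUK _) _ _ h⟩
        have := rinv _ (inv_mem (pow_mem hUK x.val)) _ _ h
        rwa [show (U ^ x.val)⁻¹ ((U ^ x.val) 0) = 0 from (U ^ x.val).symm_apply_apply 0,
          show (U ^ x.val)⁻¹ ((U ^ x.val) ((U ^ d) 0)) = (U ^ d) 0 from
            (U ^ x.val).symm_apply_apply _] at this
      have hy : (U ^ (x.val + (y.val + p ^ k - x.val))) 0 = y := Fin.ext (by
        rw [hUval, Fin.val_zero, zero_add,
          show x.val + (y.val + p ^ k - x.val) = y.val + p ^ k by omega,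
          Nat.add_mod_right, Nat.mod_eq_of_lt y.isLt])
      have h1 := hd (y.val + p ^ k - x.val)
      rw [hy, hSiff] at h1
      have hqa : q ∣ p ^ k := (hSiff _).1 hSa
      rw [h1, ← Nat.modEq_iff_dvd' (by omega)]
      show x.val % q = (y.val + p ^ k) % q ↔ _
      rw [Nat.add_mod, Nat.mod_eq_zero_of_dvd hqa, add_zero, Nat.mod_mod]
    rcases Nat.eq_zero_or_pos i with rfl | hi0
    · intro x
      exact (hriff 0 x).2 (by rw [hqi, pow_zero, Nat.mod_one, Nat.mod_one])
    rcases lt_or_eq_of_le hik with hlt | rfl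
    · obtain ⟨x, y, hxy, hne⟩ := hprim i hi0 hlt
      exact absurd ((hriff _ _).1 (rinv V hVK x y ((hriff x y).2 (hqi ▸ hxy))))
        (hqi ▸ hne)
    · refine absurd ((Subgroup.eq_bot_iff_forall B).2 fun b hb => Equiv.ext fun x => ?_) hB
      have h := (hriff x (b x)).1 ⟨b, hb, rfl⟩
      rw [hqi, Nat.mod_eq_of_lt x.isLt, Nat.mod_eq_of_lt (b x).isLt] at h
      exact (Fin.ext h).symm
  have hAne : A ≠ ⊥ := fun h =>
    hA₀ ((Subgroup.map_eq_bot_iff_of_injective _ K.subtype_injective).1 h)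
  have hAtrans := htrans A hAne hAn
  have hAsemi : ∀ n ∈ A, ∀ n' ∈ A, n 0 = n' 0 → n = n' := fun n hn n' hn' h => by
    refine Equiv.ext fun x => ?_
    obtain ⟨m, hm, rfl⟩ := hAtrans x
    rw [← Perm.mul_apply, ← Perm.mul_apply, hAc n hn m hm, hAc n' hn' m hm, Perm.mul_apply,
      Perm.mul_apply, h]
  have hAcard : Nat.card A = p ^ k := by
    rw [Nat.card_congr (Equiv.ofBijective (fun n : A => n.1 0)
      ⟨fun n n' h => Subtype.ext (hAsemi _ n.2 _ n'.2 h), fun x => by
        obtain ⟨m, hm, h⟩ := hAtrans x; exact ⟨⟨m, hm⟩, h⟩⟩), Nat.card_fin]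
  have hexp : ∀ n ∈ A, n ^ p = 1 := by
    let N : Subgroup (Perm (Fin (p ^ k))) :=
      { carrier := {n | n ∈ A ∧ n ^ p = 1}
        one_mem' := ⟨one_mem A, one_pow p⟩
        mul_mem' := fun {x y} hx hy => ⟨mul_mem hx.1 hy.1, by
          rw [(show Commute x y from hAc x hx.1 y hy.1).mul_pow, hx.2, hy.2, one_mul]⟩
        inv_mem' := fun {x} hx => ⟨inv_mem hx.1, by rw [inv_pow, hx.2, inv_one]⟩ }
    obtain ⟨n₁, hn₁⟩ := exists_prime_orderOf_dvd_card' (G := A) p
      (by rw [hAcard]; exact dvd_pow_self p (by omega))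
    have hNne : N ≠ ⊥ := fun h => by
      have hmem : n₁.1 ∈ N :=
        ⟨n₁.2, by rw [← Subgroup.coe_pow, orderOf_dvd_iff_pow_eq_one.1 hn₁.dvd]; rfl⟩
      rw [h, Subgroup.mem_bot] at hmem
      rw [show n₁ = 1 from Subtype.ext hmem, orderOf_one] at hn₁
      exact hp.one_lt.ne hn₁
    intro n hn
    obtain ⟨m, hm, h⟩ := htrans N hNne
      (fun g hg x hx => ⟨hAn g hg x hx.1, by rw [conj_pow, hx.2]; group⟩) (n 0)
    rw [← hAsemi m hm.1 n hn h]
    exact hm.2
  -- the affine structure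
  let _ : CommGroup A :=
    { (inferInstance : Group A) with mul_comm := fun x y => Subtype.ext (hAc _ x.2 _ y.2) }
  have hMp : ∀ x : Additive A, p • x = 0 := fun x => by
    apply Additive.toMul.injective
    rw [toMul_nsmul, toMul_zero]
    exact Subtype.ext (by rw [Subgroup.coe_pow]; exact hexp _ x.toMul.2)
  let φ : ∀ g ∈ K, AddMonoid.End (Additive A) := fun g hg =>
    MonoidHom.toAdditive
      ({ toFun := fun n => ⟨g * n.1 * g⁻¹, hAn g hg n.1 n.2⟩
         map_one' := Subtype.ext (by simp)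
         map_mul' := fun x y => Subtype.ext (by simp [mul_assoc]) } : A →* A)
  have hφ : ∀ g hg (n : Additive A),
      ((φ g hg n).toMul : A).1 = g * (n.toMul : A).1 * g⁻¹ := fun g hg n => rfl
  have hφpow : ∀ g hg (j : ℕ) (n : Additive A),
      (((φ g hg) ^ j) n).toMul.1 = g ^ j * n.toMul.1 * (g ^ j)⁻¹ := fun g hg j => by
    induction j with
    | zero => intro n; simp
    | succ j ih =>
      intro n
      rw [pow_succ', pow_succ' g]
      show (φ g hg (((φ g hg) ^ j) n)).toMul.1 = _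
      rw [hφ g hg, ih]
      group
  have hMcard : Nat.card (Additive A) = p ^ k := hAcard
  have hnil : ∀ g (hg : g ∈ K), (∃ e, g ^ (p ^ e) = 1) → (φ g hg - 1) ^ k = 0 := fun g hg ⟨e, he⟩ => by
    refine nilpotent_bound hp hMcard _ (e := p ^ e) ?_
    have h1 : φ g hg ^ (p ^ e) = 1 := AddMonoidHom.ext fun n => by
      apply Additive.toMul.injective
      exact Subtype.ext ((hφpow g hg _ n).trans (by rw [he]; simp; rfl))
    have h2 := end_pow_char hp hMp (φ g hg - 1) e
    rw [sub_add_cancel, h1] at h2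
    exact right_eq_add.1 h2
  have hUord : U ^ (p ^ k) = 1 :=
    Equiv.ext fun x => Fin.ext (by simp [hUval, Nat.mod_eq_of_lt x.isLt])
  rcases Nat.lt_or_ge k 2 with hk1 | hk2
  · -- degree `p`
    obtain rfl : k = 1 := by omega
    have hmem : ∀ g ∈ K, (∃ e, g ^ (p ^ e) = 1) → g ∈ A := fun g hg hge => by
      have h0 := hnil g hg hge
      rw [pow_one (φ g hg - 1), sub_eq_zero] at h0
      have hcomm : ∀ n ∈ A, g * n = n * g := fun n hn => by
        have h := hφ g hg (Additive.ofMul ⟨n, hn⟩)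
        rw [h0] at h
        exact mul_inv_eq_iff_eq_mul.1 h.symm
      obtain ⟨n, hn, hn0⟩ := hAtrans (g 0)
      have : n = g := Equiv.ext fun x => by
        obtain ⟨m, hm, rfl⟩ := hAtrans x
        rw [← Perm.mul_apply, hAc n hn m hm, Perm.mul_apply, hn0, ← Perm.mul_apply, ← hcomm m hm,
          Perm.mul_apply]
      exact this ▸ hn
    exact hprod ⟨1, (congrArg ((U * V) ^ ·) (pow_one p)).trans
      (hexp _ (mul_mem (hmem U hUK ⟨1, hUord⟩) (hmem V hVK hV)))⟩
  · obtain ⟨n₀, hn₀, hn₀0⟩ := hAtrans (U 0)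
    set L := φ U hUK with hL
    have hm := affEnd_pow_eq_one hp hMp L (hnil U hUK ⟨k, hUord⟩) (add_le_pow hp3 hk2)
    let ν : Additive A := Additive.ofMul ⟨n₀, hn₀⟩
    have hiter : ∀ j : ℕ, ((affEnd L ^ j) (0, ν)).2 = ν ∧
        (((affEnd L ^ j) (0, ν)).1.toMul : A).1 0 = (U ^ j) 0 := fun j => by
      induction j with
      | zero => exact ⟨rfl, rfl⟩
      | succ j ih =>
        obtain ⟨h2, h1⟩ := ih
        rw [pow_succ' (affEnd L), pow_succ' U]
        show ((affEnd L) ((affEnd L ^ j) (0, ν))).2 = ν ∧ _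
        set z := (affEnd L ^ j) (0, ν)
        rw [show affEnd L z = (L z.1 + z.2, z.2) from rfl]
        refine ⟨h2, ?_⟩
        show ((L z.1 + z.2).toMul : A).1 0 = _
        rw [h2, toMul_add, Subgroup.coe_mul, Perm.mul_apply, Perm.mul_apply]
        show (L z.1).toMul.1 (n₀ 0) = _
        rw [hn₀0, hL, hφ U hUK, Perm.mul_apply, Perm.mul_apply,
          show U⁻¹ (U 0) = 0 from U.symm_apply_apply 0, h1]
    have hlast := (hiter (p ^ (k - 1))).2
    rw [hm] at hlast
    have hz : (U ^ p ^ (k - 1)) 0 = 0 := hlast.symm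
    have hlt : p ^ (k - 1) < p ^ k := Nat.pow_lt_pow_right hp.one_lt (by omega)
    have := congrArg Fin.val hz
    rw [hUval, Fin.val_zero, zero_add, Nat.mod_eq_of_lt hlt] at this
    exact (pow_pos hp.pos (k - 1)).ne' this

end Cfsg.Agent.H62.CycleGroup
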