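import Cfsg.Agent.H62.Dyadic

/-!
Orbits and blocks of the dyadic Sylow 2-subgroup.
-/

set_option autoImplicit false

namespace Cfsg.Agent.H62

open Equiv

/-- The dyadic subgroup fixes the initial segment of length `2 ^ k` for the leading power `2 ^ k ≤ n`. -/
theorem dyadic_lt_pow {k : ℕ} : ∀ {n : ℕ}, 2 ^ k ≤ n → n < 2 ^ (k + 1) →
    ∀ {σ : Perm (Fin n)}, σ ∈ dyadicSubgroup n → ∀ i : Fin n, i.val < 2 ^ k → (σ i).val < 2 ^ k := by
  induction k with
  | zero =>
    intro n h1 h2 σ _ i hi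
    simp only [pow_zero, zero_add, pow_one] at h1 h2 hi ⊢
    omega
  | succ k ih =>
    intro n h1 h2 σ hσ i hi
    obtain ⟨hp, hτ⟩ := mem_dyadicSubgroup.1 hσ
    rw [pow_succ] at h1 h2 hi ⊢
    have hk : i.val / 2 < n / 2 := by omega
    have h := ih (n := n / 2) (by omega) (by omega) hτ ⟨i.val / 2, hk⟩ (by simp only; omega)
    rw [pairImage_val _ (i := i) rfl] at h
    simp only at h
    omega

/-- For `n` a power of two the dyadic subgroup preserves the partition into two halves. -/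
theorem dyadic_halves {k : ℕ} : ∀ {n : ℕ}, n = 2 ^ (k + 1) →
    ∀ {σ : Perm (Fin n)}, σ ∈ dyadicSubgroup n → ∀ i j : Fin n,
      (((σ i).val < 2 ^ k ↔ (σ j).val < 2 ^ k) ↔ (i.val < 2 ^ k ↔ j.val < 2 ^ k)) := by
  induction k with
  | zero =>
    intro n h σ _ i j
    simp only [zero_add, pow_one] at h
    subst h
    simp only [pow_zero]
    have h1 := σ.injective.eq_iff (a := i) (b := j)
    rw [Fin.ext_iff, Fin.ext_iff] at h1
    omega
  | succ k ih =>
    intro n h σ hσ i j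
    obtain ⟨hp, hτ⟩ := mem_dyadicSubgroup.1 hσ
    have hn : n = 2 ^ (k + 1) * 2 := by rw [h, pow_succ]
    have hi : i.val / 2 < n / 2 := by omega
    have hj : j.val / 2 < n / 2 := by omega
    have h1 := ih (n := n / 2) (by omega) hτ ⟨i.val / 2, hi⟩ ⟨j.val / 2, hj⟩
    rw [pairImage_val _ (i := i) rfl, pairImage_val _ (i := j) rfl] at h1
    simp only [pow_succ] at h1 ⊢
    omega

/-- The dyadic subgroup is transitive on the leading segment of length `2 ^ k`. -/
theorem dyadic_transitive {k : ℕ} : ∀ {n : ℕ}, 2 ^ k ≤ n → n < 2 ^ (k + 1) → ∀ i j : Fin n,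
    i.val < 2 ^ k → j.val < 2 ^ k → ∃ σ ∈ dyadicSubgroup n, σ i = j := by
  induction k with
  | zero =>
    intro n h1 h2 i j hi hj
    simp only [pow_zero] at hi hj
    exact ⟨1, one_mem _, Fin.ext (by simp; omega)⟩
  | succ k ih =>
    intro n h1 h2 i j hi hj
    rw [pow_succ] at h1 h2 hi hj
    have hki : i.val / 2 < n / 2 := by omega
    have hkj : j.val / 2 < n / 2 := by omega
    obtain ⟨τ, hτ, he⟩ := ih (n := n / 2) (by omega) (by omega) ⟨i.val / 2, hki⟩ ⟨j.val / 2, hkj⟩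
      (by simp only; omega) (by simp only; omega)
    let s : Fin (n / 2) → Fin 2 := fun _ => ⟨(i.val + j.val) % 2, by omega⟩
    refine ⟨pairLift n τ s, pairLift_mem hτ s, Fin.ext ?_⟩
    rw [pairLift_apply (k := ⟨i.val / 2, hki⟩) rfl, he]
    simp only [s]
    omega

/-- The even part of the dyadic subgroup is transitive on the leading segment, for `n ≥ 4`. -/
theorem dyadicAlt_transitive {k n : ℕ} (h4 : 4 ≤ n) (h1 : 2 ^ k ≤ n) (h2 : n < 2 ^ (k + 1))
    (i j : Fin n) (hi : i.val < 2 ^ k) (hj : j.val < 2 ^ k) :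
    ∃ σ ∈ dyadicSubgroup n ⊓ alternatingGroup (Fin n), σ i = j := by
  obtain ⟨σ, hσ, he⟩ := dyadic_transitive h1 h2 i j hi hj
  rcases Int.units_eq_one_or (Perm.sign σ) with h | h
  · exact ⟨σ, ⟨hσ, Perm.mem_alternatingGroup.2 h⟩, he⟩
  · obtain ⟨l, hl⟩ : ∃ l : Fin (n / 2), l.val ≠ i.val / 2 := by
      by_cases h0 : i.val / 2 = 0
      · exact ⟨⟨1, by omega⟩, by simp only; omega⟩
      · exact ⟨⟨0, by omega⟩, by simp only; omega⟩
    refine ⟨σ * pairSwap n l, ⟨mul_mem hσ (pairSwap_mem l), Perm.mem_alternatingGroup.2 ?_⟩, ?_⟩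
    · rw [map_mul, h, sign_pairSwap]; decide
    · rw [Perm.mul_apply, pairSwap_fix (Ne.symm hl), he]

end Cfsg.Agent.H62
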