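import Mathlib

/-!
The number of fixed points of a product of conjugates is not constant.
-/

set_option autoImplicit false

namespace Cfsg.Agent.H62.FixProd

open Equiv

variable {n : ℕ}

theorem exists_perm_map : ∀ {k : ℕ} (e e' : Fin k → Fin n), Function.Injective e →
    Function.Injective e' → ∃ g : Perm (Fin n), ∀ i, g (e i) = e' i
  | 0, _, _, _, _ => ⟨1, fun i => i.elim0⟩
  | k + 1, e, e', he, he' => by
    obtain ⟨g, hg⟩ := exists_perm_map (e ∘ Fin.castSucc) (e' ∘ Fin.castSucc)
      (he.comp (Fin.castSucc_injective k)) (he'.comp (Fin.castSucc_injective k))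
    refine ⟨swap (g (e (Fin.last k))) (e' (Fin.last k)) * g, fun i => ?_⟩
    induction i using Fin.lastCases with
    | last => simp
    | cast i =>
      have h1 : g (e i.castSucc) = e' i.castSucc := hg i
      rw [Perm.mul_apply, h1, swap_apply_of_ne_of_ne]
      · rw [← h1]
        exact fun h => (Fin.castSucc_lt_last i).ne (he (g.injective h))
      · exact fun h => (Fin.castSucc_lt_last i).ne (he' h)

theorem exists_even_map {k : ℕ} (hk : k + 2 ≤ n) (e e' : Fin k → Fin n) (he : Function.Injective e)
    (he' : Function.Injective e') :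
    ∃ g : Perm (Fin n), Perm.sign g = 1 ∧ ∀ i, g (e i) = e' i := by
  classical
  obtain ⟨g, hg⟩ := exists_perm_map e e' he he'
  rcases Int.units_eq_one_or (Perm.sign g) with h | h
  · exact ⟨g, h, hg⟩
  have hcard : 1 < (Finset.univ \ Finset.univ.image e').card := by
    have h2 := Finset.card_image_of_injective Finset.univ he'
    rw [Finset.card_univ, Fintype.card_fin] at h2
    rw [Finset.card_sdiff_of_subset (Finset.subset_univ _), Finset.card_univ, Fintype.card_fin, h2]
    omega
  obtain ⟨x, hx, y, hy, hxy⟩ := Finset.one_lt_card.1 hcard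
  simp only [Finset.mem_sdiff, Finset.mem_univ, true_and, Finset.mem_image, not_exists] at hx hy
  refine ⟨swap x y * g, by rw [map_mul, Perm.sign_swap hxy, h]; decide, fun i => ?_⟩
  rw [Perm.mul_apply, hg, swap_apply_of_ne_of_ne (hx i) (hy i)]

/-- The number of points on which two permutations agree. -/
def agree (s b : Perm (Fin n)) : ℕ := (Finset.univ.filter (fun x => s x = b x)).card

theorem agree_eq_fixed (a b : Perm (Fin n)) :
    Nat.card (Function.fixedPoints ⇑(a * b)) = agree a⁻¹ b := by
  rw [agree, ← Nat.card_eq_finsetCard]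
  refine Nat.card_congr (Equiv.subtypeEquivRight fun x => ?_)
  simp only [Finset.mem_filter, Finset.mem_univ, true_and]
  show a (b x) = x ↔ _
  rw [Perm.inv_eq_iff_eq, eq_comm]

theorem agree_conj (g s b : Perm (Fin n)) : agree (g * s * g⁻¹) (g * b * g⁻¹) = agree s b := by
  exact Finset.card_equiv g⁻¹ (fun x => by simp [Finset.mem_filter, Perm.mul_apply])

theorem exists_quad (hn : 5 ≤ n) {b : Perm (Fin n)} (hb : b ≠ 1) :
    ∃ e : Fin 4 → Fin n, Function.Injective e ∧
      b (e 0) = e 1 ∧ b (e 1) ≠ e 2 ∧ b (e 3) ≠ e 0 := by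
  classical
  obtain ⟨p, hp⟩ : ∃ p, b p ≠ p := by
    by_contra h
    push Not at h
    exact hb (Equiv.ext h)
  set q := b p with hq
  obtain ⟨u, -, hu⟩ := Finset.exists_mem_notMem_of_card_lt_card
    (s := {p, q, b q}) (t := (Finset.univ : Finset (Fin n)))
    (by rw [Finset.card_univ, Fintype.card_fin]; exact Finset.card_le_three.trans_lt (by omega))
  obtain ⟨v, -, hv⟩ := Finset.exists_mem_notMem_of_card_lt_card
    (s := {p, q, u, b.symm p}) (t := (Finset.univ : Finset (Fin n)))
    (by rw [Finset.card_univ, Fintype.card_fin]; exact Finset.card_le_four.trans_lt (by omega))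
  simp only [Finset.mem_insert, Finset.mem_singleton, not_or] at hu hv
  refine ⟨![p, q, u, v], ?_, rfl, Ne.symm hu.2.2, fun h => hv.2.2.2 (b.eq_symm_apply.2 h)⟩
  intro i j h
  fin_cases i <;> fin_cases j <;> first
    | rfl
    | exact absurd h hp.symm
    | exact absurd h hp
    | exact absurd h (Ne.symm hu.1)
    | exact absurd h (Ne.symm hu.2.1)
    | exact absurd h (Ne.symm hv.1)
    | exact absurd h (Ne.symm hv.2.1)
    | exact absurd h (Ne.symm hv.2.2.1)
    | exact absurd h hu.1
    | exact absurd h hu.2.1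
    | exact absurd h hv.1
    | exact absurd h hv.2.1
    | exact absurd h hv.2.2.1

/-- The local contribution of a point to the second difference. -/
def diffAt (s b : Perm (Fin n)) (t t' : Perm (Fin n)) (x : Fin n) : ℤ :=
  (if s x = b x then 1 else 0) - (if s x = t (b (t x)) then 1 else 0) -
    (if s x = t' (b (t' x)) then 1 else 0) + if s x = t (t' (b (t' (t x)))) then 1 else 0

theorem second_diff_pos {s b : Perm (Fin n)} {p q u v : Fin n} (hpq : p ≠ q) (hpu : p ≠ u)
    (hpv : p ≠ v) (hqu : q ≠ u) (hqv : q ≠ v) (huv : u ≠ v)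
    (hb : b p = q) (hbq : b q ≠ u) (hbv : b v ≠ p)
    (hs : s p = q) (hsq : s q ≠ u) (hsv : s v ≠ p) :
    1 ≤ ∑ x, diffAt s b (swap p u) (swap q v) x := by
  have hsu : s u ≠ q := fun h => hpu (s.injective (hs.trans h.symm))
  have hbu : b u ≠ q := fun h => hpu (b.injective (hb.trans h.symm))
  have mono : ∀ (P Q : Prop) [Decidable P] [Decidable Q], (P → Q) →
      (if P then (1 : ℤ) else 0) ≤ if Q then 1 else 0 := fun P Q _ _ h => by
    by_cases hP : P
    · rw [if_pos hP, if_pos (h hP)]
    · rw [if_neg hP]; split_ifs <;> norm_num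
  have nn : ∀ (P : Prop) [Decidable P], (0 : ℤ) ≤ if P then 1 else 0 := fun P _ => by
    split_ifs <;> norm_num
  have tq : swap p u q = q := swap_apply_of_ne_of_ne hpq.symm hqu
  have tv : swap p u v = v := swap_apply_of_ne_of_ne hpv.symm huv.symm
  have t'p : swap q v p = p := swap_apply_of_ne_of_ne hpq hpv
  have t'u : swap q v u = u := swap_apply_of_ne_of_ne hqu.symm huv
  have hnonneg : ∀ x, (if x = p then 1 else 0) ≤ diffAt s b (swap p u) (swap q v) x := fun x => by
    unfold diffAt
    by_cases hxp : x = p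
    · subst hxp
      rw [if_pos rfl, swap_apply_left, t'p, hs, hb, if_pos rfl,
        if_neg (fun h => hbu ((swap_apply_eq_iff.1 h.symm).trans tq)),
        if_neg (fun h => hqv (by rw [h, swap_apply_left]))]
      linarith [nn (q = swap x u (swap q v (b (swap q v u))))]
    rw [if_neg hxp]
    by_cases hxu : x = u
    · subst hxu
      rw [swap_apply_right, t'p, t'u, hb, tq, if_neg hsu, sub_zero]
      linarith [mono (s x = swap q v (b x)) (s x = b x) (fun h => by
        by_cases hbv' : b x = v
        · exact absurd (h.trans (by rw [hbv', swap_apply_right])) hsu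
        · rwa [swap_apply_of_ne_of_ne hbu hbv'] at h),
        nn (s x = swap p x (swap q v q))]
    by_cases hxq : x = q
    · subst hxq
      rw [tq, swap_apply_left]
      linarith [mono (s x = swap p u (b x)) (s x = b x) (fun h => by
        by_cases hbp : b x = p
        · exact absurd (h.trans (by rw [hbp, swap_apply_left])) hsq
        · rwa [swap_apply_of_ne_of_ne hbp hbq] at h),
        mono (s x = swap x v (b v)) (s x = swap p u (swap x v (b v))) (fun h => by
          have hsp : s x ≠ p := fun e => hbv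
            ((swap_apply_eq_iff.1 (h.symm.trans e)).trans t'p)
          rw [← h, swap_apply_of_ne_of_ne hsp hsq])]
    by_cases hxv : x = v
    · subst hxv
      rw [tv, swap_apply_right]
      linarith [mono (s x = swap p u (b x)) (s x = b x) (fun h => by
        by_cases hbu' : b x = u
        · exact absurd (h.trans (by rw [hbu', swap_apply_right])) hsv
        · rwa [swap_apply_of_ne_of_ne hbv hbu'] at h),
        mono (s x = swap q x (b q)) (s x = swap p u (swap q x (b q))) (fun h => by
          have hsu' : s x ≠ u := fun e => hbq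
            ((swap_apply_eq_iff.1 (h.symm.trans e)).trans t'u)
          rw [← h, swap_apply_of_ne_of_ne hsv hsu'])]
    rw [swap_apply_of_ne_of_ne hxp hxu, swap_apply_of_ne_of_ne hxq hxv]
    by_cases hT : b x = q ∨ b x = v
    · have h1 : swap p u (b x) = b x := by
        rcases hT with h | h <;> rw [h] <;> assumption
      have h2 : swap p u (swap q v (b x)) = swap q v (b x) := by
        rcases hT with h | h <;> rw [h]
        · rw [swap_apply_left, tv]
        · rw [swap_apply_right, tq]
      rw [h1, h2]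
      simp
    · push Not at hT
      rw [swap_apply_of_ne_of_ne hT.1 hT.2]
      simp
  calc (1 : ℤ) = ∑ x, (if x = p then (1 : ℤ) else 0) := by simp
    _ ≤ _ := Finset.sum_le_sum fun x _ => hnonneg x

theorem agree_cast (s b : Perm (Fin n)) : (agree s b : ℤ) = ∑ x, if s x = b x then 1 else 0 := by
  rw [agree, Finset.card_filter]
  push_cast
  rfl

/-- The symmetric case: constancy on all pairs of conjugates is impossible. -/
theorem not_const_perm (hn : 5 ≤ n) {s b : Perm (Fin n)} (hs : s ≠ 1) (hb : b ≠ 1) (c : ℕ)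
    (h : ∀ k l : Perm (Fin n), agree (k * s * k⁻¹) (l * b * l⁻¹) = c) : False := by
  obtain ⟨e, he, e01, e12, e30⟩ := exists_quad hn hb
  obtain ⟨e', he', e01', e12', e30'⟩ := exists_quad hn hs
  obtain ⟨k, hk⟩ := exists_perm_map e' e he' he
  have hk' : ∀ i, k⁻¹ (e i) = e' i := fun i => by rw [Perm.inv_eq_iff_eq, hk]
  set s' := k * s * k⁻¹ with hs'
  have hpos := second_diff_pos (s := s') (b := b) (p := e 0) (q := e 1) (u := e 2) (v := e 3)
    (he.ne (by decide)) (he.ne (by decide)) (he.ne (by decide)) (he.ne (by decide))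
    (he.ne (by decide)) (he.ne (by decide)) e01 e12 e30
    (by rw [hs', Perm.mul_apply, Perm.mul_apply, hk', e01', hk])
    (by
      rw [hs', Perm.mul_apply, Perm.mul_apply, hk', ← hk 2]
      exact fun h => e12' (k.injective h))
    (by
      rw [hs', Perm.mul_apply, Perm.mul_apply, hk', ← hk 0]
      exact fun h => e30' (k.injective h))
  have key : ∀ l : Perm (Fin n),
      (∑ x, if s' x = (l * b * l⁻¹) x then (1 : ℤ) else 0) = (c : ℤ) := fun l => by
    rw [← agree_cast, h]
  have h1 := key 1
  have h2 := key (swap (e 0) (e 2))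
  have h3 := key (swap (e 1) (e 3))
  have h4 := key (swap (e 0) (e 2) * swap (e 1) (e 3))
  simp only [inv_one, one_mul, mul_one, _root_.mul_inv_rev, swap_inv, Perm.mul_apply] at h1 h2 h3 h4
  simp only [diffAt, Finset.sum_add_distrib, Finset.sum_sub_distrib, h1, h4] at hpos
  erw [h2, h3] at hpos
  omega

/-- An element without odd centralising permutation has at most one fixed point and is not an involution. -/
theorem split_class_props {b : Perm (Fin n)} (hb : b ≠ 1)
    (hsplit : ∀ t, t * b * t⁻¹ = b → Perm.sign t = 1) :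
    (Finset.univ.filter (fun x => b x = x)).card ≤ 1 ∧
      ∃ x, b x ≠ x ∧ b (b x) ≠ x := by
  refine ⟨Finset.card_le_one.2 fun x hx y hy => ?_, ?_⟩
  · simp only [Finset.mem_filter, Finset.mem_univ, true_and] at hx hy
    by_contra hxy
    have h := hsplit (swap x y) (by
      rw [mul_inv_eq_iff_eq_mul, ← mul_inv_eq_iff_eq_mul.1 (show b * swap x y * b⁻¹ = swap x y by
        rw [← swap_apply_apply, hx, hy])])
    rw [Perm.sign_swap hxy] at h
    exact absurd h (by decide)
  · by_contra hne
    push Not at hne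
    obtain ⟨x, hx⟩ : ∃ x, b x ≠ x := by
      by_contra h'
      push Not at h'
      exact hb (Equiv.ext h')
    have h := hsplit (swap x (b x)) (by
      rw [mul_inv_eq_iff_eq_mul, ← mul_inv_eq_iff_eq_mul.1
        (show b * swap x (b x) * b⁻¹ = swap x (b x) by
          rw [← swap_apply_apply, hne x hx, swap_comm])])
    rw [Perm.sign_swap (Ne.symm hx)] at h
    exact absurd h (by decide)

/-- The split case: some pair agrees twice while the average is below two. -/
theorem not_const_split (hn : 5 ≤ n) {s b : Perm (Fin n)} (hs : s ≠ 1) (hb : b ≠ 1)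
    (hs' : ∀ t, t * s * t⁻¹ = s → Perm.sign t = 1) (hb' : ∀ t, t * b * t⁻¹ = b → Perm.sign t = 1)
    (c : ℕ) (h : ∀ k : Perm (Fin n), Perm.sign k = 1 → agree (k * s * k⁻¹) b = c) : False := by
  classical
  obtain ⟨hF, x, hx1, hx2⟩ := split_class_props hs hs'
  obtain ⟨hG, y, hy1, hy2⟩ := split_class_props hb hb'
  have inj3 : ∀ (f : Perm (Fin n)) (z : Fin n), f z ≠ z → f (f z) ≠ z →
      Function.Injective ![z, f z, f (f z)] := fun f z h1 h2 i j hij => by
    have h3 : f (f z) ≠ f z := fun e => h1 (f.injective e)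
    fin_cases i <;> fin_cases j <;> first
      | rfl
      | exact absurd hij h1 | exact absurd hij h1.symm
      | exact absurd hij h2 | exact absurd hij h2.symm
      | exact absurd hij h3 | exact absurd hij h3.symm
  obtain ⟨k, hk1, hk⟩ := exists_even_map (k := 3) (by omega) _ _ (inj3 s x hx1 hx2)
    (inj3 b y hy1 hy2)
  have k0 : k x = y := hk 0
  have k1 : k (s x) = b y := hk 1
  have k2 : k (s (s x)) = b (b y) := hk 2
  have hc2 : 2 ≤ c := by
    rw [← h k hk1]
    refine le_trans (le_of_eq (Finset.card_pair (Ne.symm hy1)).symm) (Finset.card_le_card ?_)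
    intro z hz
    rw [Finset.mem_filter]
    refine ⟨Finset.mem_univ _, ?_⟩
    simp only [Finset.mem_insert, Finset.mem_singleton] at hz
    rcases hz with rfl | rfl
    · rw [Perm.mul_apply, Perm.mul_apply, Perm.inv_eq_iff_eq.2 k0.symm, k1]
    · rw [Perm.mul_apply, Perm.mul_apply, Perm.inv_eq_iff_eq.2 k1.symm, k2]
  -- counting
  let A : Finset (Perm (Fin n)) := Finset.univ.filter (fun g => Perm.sign g = 1)
  let N : Fin n → Fin n → ℕ := fun p q => (A.filter (fun g => (g * s * g⁻¹) p = q)).card
  have hApos : 0 < A.card :=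
    Finset.card_pos.2 ⟨1, Finset.mem_filter.2 ⟨Finset.mem_univ _, map_one _⟩⟩
  have hN : ∀ p q p' q' (g : Perm (Fin n)), Perm.sign g = 1 → g p = p' → g q = q' →
      N p q = N p' q' := fun p q p' q' g hg hp hq => by
    refine Finset.card_equiv (Equiv.mulLeft g) (fun i => ?_)
    simp only [A]
    rw [Finset.mem_filter, Finset.mem_filter, Finset.mem_filter, Finset.mem_filter]
    simp only [Finset.mem_univ, true_and, coe_mulLeft, map_mul, hg, one_mul, _root_.mul_inv_rev,
      Perm.mul_apply, ← hp, ← hq, EmbeddingLike.apply_eq_iff_eq]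
    rw [show g⁻¹ (g p) = p from g.symm_apply_apply p]
  have hrow : ∀ p, ∑ q, N p q = A.card := fun p =>
    (Finset.card_eq_sum_card_fiberwise (fun g _ => Finset.mem_univ _)).symm
  have hdiag : ∑ p, N p p ≤ A.card := by
    calc ∑ p, N p p = ∑ g ∈ A, (Finset.univ.filter (fun p => (g * s * g⁻¹) p = p)).card := by
          simp only [N, Finset.card_filter]; exact Finset.sum_comm
      _ ≤ ∑ _g ∈ A, 1 := Finset.sum_le_sum fun g _ => by
          refine le_trans (le_of_eq ?_) hF
          refine Finset.card_equiv g⁻¹ (fun p => ?_)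
          rw [Finset.mem_filter, Finset.mem_filter]
          simp only [Finset.mem_univ, true_and, Perm.mul_apply]
          exact g.eq_symm_apply.symm
      _ = A.card := by simp
  have hd : ∀ p, n * N p p ≤ A.card := fun p => by
    have : ∀ p', N p p = N p' p' := fun p' => by
      obtain ⟨g, hg1, hg⟩ := exists_even_map (k := 1) (by omega) ![p] ![p']
        (Function.injective_of_subsingleton _) (Function.injective_of_subsingleton _)
      exact hN _ _ _ _ g hg1 (hg 0) (hg 0)
    refine le_trans (le_of_eq ?_) hdiag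
    rw [Finset.sum_congr rfl (fun p' _ => (this p').symm), Finset.sum_const, Finset.card_univ,
      Fintype.card_fin, smul_eq_mul]
  have hoff : ∀ p q, p ≠ q → (n - 1) * N p q ≤ A.card := fun p q hpq => by
    have : ∀ q' ∈ Finset.univ.erase p, N p q = N p q' := fun q' hq' => by
      have hne : p ≠ q' := (Finset.ne_of_mem_erase hq').symm
      obtain ⟨g, hg1, hg⟩ := exists_even_map (k := 2) (by omega) ![p, q] ![p, q']
        (fun i j hij => by fin_cases i <;> fin_cases j <;> simp_all)
        (fun i j hij => by fin_cases i <;> fin_cases j <;> simp_all)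
      exact hN _ _ _ _ g hg1 (hg 0) (hg 1)
    rw [← hrow p]
    refine le_trans (le_of_eq ?_)
      (Finset.sum_le_sum_of_subset (Finset.subset_univ (Finset.univ.erase p)))
    rw [Finset.sum_congr rfl (fun q' hq' => (this q' hq').symm), Finset.sum_const,
      Finset.card_erase_of_mem (Finset.mem_univ _), Finset.card_univ, Fintype.card_fin, smul_eq_mul]
  have htot : c * A.card = ∑ p, N p (b p) := by
    calc c * A.card = ∑ _g ∈ A, c := by rw [Finset.sum_const, smul_eq_mul, mul_comm]
      _ = ∑ g ∈ A, agree (g * s * g⁻¹) b :=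
          Finset.sum_congr rfl fun g hg => (h g (Finset.mem_filter.1 hg).2).symm
      _ = ∑ p, N p (b p) := by simp only [N, agree, Finset.card_filter]; exact Finset.sum_comm
  have hbound : ∀ p, n * (n - 1) * N p (b p) ≤
      n * A.card + (if b p = p then (n - 1) * A.card else 0) := fun p => by
    split_ifs with hp
    · rw [hp, mul_comm n, mul_assoc]
      exact le_trans (Nat.mul_le_mul_left _ (hd p)) (Nat.le_add_left _ _)
    · rw [mul_assoc, add_zero]
      exact Nat.mul_le_mul_left _ (hoff p (b p) (Ne.symm hp))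
  have hfinal : n * (n - 1) * (c * A.card) ≤ (n * n + (n - 1)) * A.card := by
    rw [htot, Finset.mul_sum]
    refine (Finset.sum_le_sum fun p _ => hbound p).trans ?_
    rw [Finset.sum_add_distrib, Finset.sum_const, Finset.card_univ, Fintype.card_fin, smul_eq_mul,
      ← Finset.sum_filter, Finset.sum_const, smul_eq_mul, add_mul, mul_assoc]
    exact Nat.add_le_add_left ((Nat.mul_le_mul_right _ hG).trans_eq (one_mul _)) _
  rw [← mul_assoc] at hfinal
  have hle := Nat.le_of_mul_le_mul_right hfinal hApos
  have h2n : n * (n - 1) * 2 ≤ n * n + (n - 1) :=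
    le_trans (Nat.mul_le_mul_left _ hc2) hle
  obtain ⟨m, rfl⟩ : ∃ m, n = m + 5 := ⟨n - 5, by omega⟩
  rw [show m + 5 - 1 = m + 4 by omega] at h2n
  nlinarith

/-- The number of fixed points is not constant on products of conjugates. -/
theorem exists_fixed_ne (hn : 5 ≤ n) {a b : Perm (Fin n)} (ha : a ≠ 1) (hb : b ≠ 1) :
    ∃ g₁ h₁ g₂ h₂ : Perm (Fin n), g₁ ∈ alternatingGroup (Fin n) ∧
      h₁ ∈ alternatingGroup (Fin n) ∧ g₂ ∈ alternatingGroup (Fin n) ∧
      h₂ ∈ alternatingGroup (Fin n) ∧
      Nat.card (Function.fixedPoints ⇑(g₁ * a * g₁⁻¹ * (h₁ * b * h₁⁻¹))) ≠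
        Nat.card (Function.fixedPoints ⇑(g₂ * a * g₂⁻¹ * (h₂ * b * h₂⁻¹))) := by
  by_contra hno
  push Not at hno
  set c := agree a⁻¹ b
  have h : ∀ g l : Perm (Fin n), Perm.sign g = 1 → Perm.sign l = 1 →
      agree (g * a⁻¹ * g⁻¹) (l * b * l⁻¹) = c := fun g l hg hl => by
    have := hno g l 1 1 (Perm.mem_alternatingGroup.2 hg) (Perm.mem_alternatingGroup.2 hl)
      (one_mem _) (one_mem _)
    rw [agree_eq_fixed, agree_eq_fixed] at this
    simpa [mul_assoc] using this
  have hinv : a⁻¹ ≠ 1 := inv_ne_one.2 ha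
  by_cases hsplit : (∀ t, t * a⁻¹ * t⁻¹ = a⁻¹ → Perm.sign t = 1) ∧
      (∀ t, t * b * t⁻¹ = b → Perm.sign t = 1)
  · exact not_const_split hn hinv hb hsplit.1 hsplit.2 c
      (fun k hk => by simpa using h k 1 hk (map_one _))
  refine not_const_perm hn hinv hb c fun k l => ?_
  have hodd : (∃ t, t * a⁻¹ * t⁻¹ = a⁻¹ ∧ Perm.sign t = -1) ∨
      ∃ t, t * b * t⁻¹ = b ∧ Perm.sign t = -1 := by
    by_contra h'
    push Not at h'
    exact hsplit ⟨fun t ht => (Int.units_eq_one_or _).resolve_right (h'.1 t ht),
      fun t ht => (Int.units_eq_one_or _).resolve_right (h'.2 t ht)⟩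
  have key : ∀ g : Perm (Fin n), agree (g * a⁻¹ * g⁻¹) b = c := fun g => by
    rcases Int.units_eq_one_or (Perm.sign g) with hg | hg
    · simpa using h g 1 hg (map_one _)
    rcases hodd with ⟨t, ht, ht'⟩ | ⟨t, ht, ht'⟩
    · have := h (g * t) 1 (by rw [map_mul, hg, ht']; decide) (map_one _)
      rwa [inv_one, one_mul, mul_one, _root_.mul_inv_rev, show g * t * a⁻¹ * (t⁻¹ * g⁻¹) =
        g * (t * a⁻¹ * t⁻¹) * g⁻¹ by group, ht] at this
    · have := h (t * g) 1 (by rw [map_mul, hg, ht']; decide) (map_one _)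
      rw [inv_one, one_mul, mul_one, ← ht, _root_.mul_inv_rev,
        show t * g * a⁻¹ * (g⁻¹ * t⁻¹) = t * (g * a⁻¹ * g⁻¹) * t⁻¹ by group, agree_conj] at this
      exact this
  rw [← agree_conj l⁻¹, ← key (l⁻¹ * k)]
  congr 1 <;> group

end Cfsg.Agent.H62.FixProd
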