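import Cfsg.Agent.H4.Coset.Proper
import Mathlib.LinearAlgebra.Determinant
import Mathlib.FieldTheory.Finite.Basic

/-!
Similarities whose square is a scalar: their shape when improper, and the isometries commuting
with them.
-/

set_option autoImplicit false

namespace Cfsg.Agent.H62.InvSim

open QuadraticMap hiding sq
open Module
open Cfsg.Agent.H4
open Cfsg.Agent.H5 (orth refl refl_apply dick spin sqc orth_map orth_ext orth_mul_apply)

variable {F V : Type*} [Field F] [AddCommGroup V] [Module F V] [FiniteDimensional F V]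

/-- The determinant of an involution. -/
theorem det_involution (h2 : (2 : F) ≠ 0) (T : V →ₗ[F] V) (hT : ∀ v, T (T v) = v) :
    finrank F (LinearMap.ker (T - 1)) + finrank F (LinearMap.ker (T + 1)) = finrank F V ∧
      LinearMap.det T = (-1) ^ finrank F (LinearMap.ker (T + 1)) := by
  set W := LinearMap.ker (T - 1) with hW
  set U := LinearMap.ker (T + 1) with hU
  have hmW : ∀ v, v ∈ W ↔ T v = v := fun v => by simp [hW, sub_eq_zero]
  have hmU : ∀ v, v ∈ U ↔ T v = -v := fun v => by simp [hU, add_eq_zero_iff_eq_neg]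
  have hc : IsCompl W U := by
    constructor
    · rw [Submodule.disjoint_def]
      intro v hv hv'
      rw [hmW] at hv
      rw [hmU, hv, eq_neg_iff_add_eq_zero, ← two_smul F v] at hv'
      exact (smul_eq_zero.1 hv').resolve_left h2
    · rw [Submodule.codisjoint_iff_exists_add_eq]
      intro v
      refine ⟨(2 : F)⁻¹ • (v + T v), (2 : F)⁻¹ • (v - T v), ?_, ?_, ?_⟩
      · rw [hmW, map_smul, map_add, hT, add_comm]
      · rw [hmU, map_smul, map_sub, hT, ← smul_neg, neg_sub]
      · rw [← smul_add, add_add_sub_cancel, ← two_smul F v, smul_smul, inv_mul_cancel₀ h2, one_smul]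
  refine ⟨Submodule.finrank_add_eq_of_isCompl hc, ?_⟩
  have he : W ≤ W.comap T := fun v hv => by
    rw [hmW] at hv
    rw [Submodule.mem_comap, hv, hmW]
    exact hv
  rw [LinearMap.det_eq_det_mul_det W T he,
    show T.restrict he = LinearMap.id from LinearMap.ext fun v => Subtype.ext ((hmW v.1).1 v.2),
    LinearMap.det_id, one_mul,
    show W.mapQ W T he = (-1 : F) • LinearMap.id from LinearMap.ext fun x => by
      obtain ⟨v, rfl⟩ := W.mkQ_surjective x
      change W.mkQ (T v) = (-1 : F) • W.mkQ v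
      rw [← map_smul, Submodule.mkQ_apply, Submodule.mkQ_apply, Submodule.Quotient.eq, hmW,
        neg_one_smul, sub_neg_eq_add, map_add, hT, add_comm],
    LinearMap.det_smul, LinearMap.det_id, mul_one,
    (Submodule.quotientEquivOfIsCompl W U hc).finrank_eq]

/-- The determinant of a map with non-square scalar square. -/
theorem det_of_sq_nonsquare {l : F} (hl : ¬ IsSquare l) :
    ∀ (d : ℕ) (W : Submodule F V) (T : V →ₗ[F] V) (hTW : W ≤ W.comap T),
      finrank F (V ⧸ W) = d → (∀ v, T (T v) = l • v) →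
      ∃ j, d = 2 * j ∧ LinearMap.det (W.mapQ W T hTW) = (-l) ^ j := by
  intro d
  induction d using Nat.strong_induction_on with
  | _ d ih =>
    intro W T hTW hd hT
    rcases Nat.eq_zero_or_pos d with rfl | hpos
    · exact ⟨0, rfl, by rw [LinearMap.det_eq_one_of_finrank_eq_zero hd, pow_zero]⟩
    have hW : W ≠ ⊤ := by
      rintro rfl
      have : Subsingleton (V ⧸ (⊤ : Submodule F V)) := Submodule.Quotient.subsingleton_iff.2 rfl
      rw [finrank_zero_of_subsingleton] at hd
      omega
    obtain ⟨v, hv⟩ : ∃ v, v ∉ W := by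
      by_contra h
      push Not at h
      exact hW (Submodule.eq_top_iff'.2 h)
    let W' := W ⊔ Submodule.span F {v, T v}
    have hTW' : W' ≤ W'.comap T := by
      refine sup_le (hTW.trans (Submodule.comap_mono le_sup_left)) (Submodule.span_le.2 ?_)
      rintro x (rfl | rfl)
      · exact Submodule.mem_sup_right (Submodule.subset_span (by simp))
      · change T (T v) ∈ W'
        rw [hT]
        exact Submodule.mem_sup_right (Submodule.smul_mem _ _ (Submodule.subset_span (by simp)))
    set S := W'.map W.mkQ with hS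
    set q := W.mapQ W T hTW with hq
    have hqS : S ≤ S.comap q := by
      rintro _ ⟨x, hx, rfl⟩
      exact ⟨T x, hTW' hx, rfl⟩
    set a := W.mkQ v with ha
    have hqq : ∀ x, q (q x) = l • x := fun x => by
      obtain ⟨y, rfl⟩ := W.mkQ_surjective x
      change W.mkQ (T (T y)) = l • W.mkQ y
      rw [hT, map_smul]
    have ha0 : a ≠ 0 := fun h => hv ((Submodule.Quotient.mk_eq_zero W).1 h)
    have hind : LinearIndependent F ![a, q a] := by
      rw [LinearIndependent.pair_iff]
      intro s t hst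
      by_cases ht : t = 0
      · subst ht
        rw [zero_smul, add_zero] at hst
        exact ⟨(smul_eq_zero.1 hst).resolve_right ha0, rfl⟩
      refine absurd ⟨s / t, ?_⟩ hl
      have h1 : q a = -(s / t) • a := by
        have h2 : t • q a = -(s • a) := eq_neg_of_add_eq_zero_right hst
        rw [neg_smul, div_eq_inv_mul, ← smul_smul, ← smul_neg, ← h2, smul_smul, inv_mul_cancel₀ ht,
          one_smul]
      have h3 := hqq a
      rw [h1, map_smul, h1, smul_smul, neg_mul_neg] at h3
      exact (smul_left_injective F ha0 h3).symm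
    have hspan : S = Submodule.span F (Set.range ![a, q a]) := by
      rw [hS, Submodule.map_sup, Submodule.map_span, Set.image_insert_eq, Set.image_singleton,
        Matrix.range_cons, Matrix.range_cons, Matrix.range_empty, Set.union_empty,
        Set.singleton_union, (Submodule.mkQ_map_self W : W.map W.mkQ = ⊥), bot_sup_eq]
      rfl
    let b : Basis (Fin 2) F S := (Basis.span hind).map (LinearEquiv.ofEq _ _ hspan.symm)
    have hb : ∀ i, (b i : V ⧸ W) = ![a, q a] i := fun i => by
      simp [b, Basis.span_apply]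
    have hdet : LinearMap.det (q.restrict hqS) = -l := by
      have hcol : ∀ j, q.restrict hqS (b j) = ![b 1, l • b 0] j := by
        intro j
        fin_cases j
        · exact Subtype.ext (by simp [hb, LinearMap.restrict_apply])
        · exact Subtype.ext (by simp [hb, LinearMap.restrict_apply, hqq])
      rw [← LinearMap.det_toMatrix b,
        show LinearMap.toMatrix b b (q.restrict hqS) = !![0, l; 1, 0] by
          ext i j
          rw [LinearMap.toMatrix_apply, hcol]
          fin_cases j <;> fin_cases i <;> simp,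
        Matrix.det_fin_two_of]
      ring
    have hrS : finrank F S = 2 := by rw [Module.finrank_eq_card_basis b]; rfl
    let e : ((V ⧸ W) ⧸ S) ≃ₗ[F] V ⧸ W' := Submodule.quotientQuotientEquivQuotient W W' le_sup_left
    have hd2 : finrank F (V ⧸ W') + 2 = d := by
      rw [← e.finrank_eq, ← hrS, Submodule.finrank_quotient_add_finrank, hd]
    obtain ⟨j, hj, hdj⟩ := ih (finrank F (V ⧸ W')) (by omega) W' T hTW' rfl hT
    refine ⟨j + 1, by omega, ?_⟩
    rw [LinearMap.det_eq_det_mul_det S q hqS, hdet, pow_succ', ← hdj, ← LinearMap.det_conj (S.mapQ S q hqS) e]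
    congr 2
    refine LinearMap.ext fun x => ?_
    obtain ⟨y, rfl⟩ := W'.mkQ_surjective x
    rfl

variable [Finite F] [Finite V] {Q : QuadraticForm F V} {n : ℕ}

/-- The eigenspaces of a symmetric involution are non-degenerate. -/
theorem eigen_inf_perp (h2 : (2 : F) ≠ 0) (hQ : (polarBilin Q).Nondegenerate) (k : orth Q)
    (hk : ∀ v, (k : V ≃ₗ[F] V) ((k : V ≃ₗ[F] V) v) = v) {e : F} (he : e = 1 ∨ e = -1)
    {E : Submodule F V} (hE : ∀ v, v ∈ E ↔ (k : V ≃ₗ[F] V) v = e • v) :
    E ⊓ H5.perp Q E = ⊥ := by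
  rw [eq_bot_iff]
  rintro x ⟨hx, hxp⟩
  refine eq_zero_of_polar hQ fun y => ?_
  have hee : e * e = 1 := by rcases he with rfl | rfl <;> ring
  have hy : y + e • (k : V ≃ₗ[F] V) y ∈ E := by
    rw [hE, map_add, map_smul, hk, smul_add, smul_smul, hee, one_smul, add_comm]
  have h1 := (H5.mem_perp.1 hxp) _ hy
  have h3 : polar Q ((k : V ≃ₗ[F] V) y) x = e * polar Q y x := by
    have h4 : polar Q ((k : V ≃ₗ[F] V) y) ((k : V ≃ₗ[F] V) x) = polar Q y x :=
      H5.orth_polar k y x
    rw [(hE x).1 hx, polar_smul_right, smul_eq_mul] at h4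
    rw [← h4, ← mul_assoc, hee, one_mul]
  rw [polar_add_left, polar_smul_left, smul_eq_mul, h3, ← mul_assoc, hee, one_mul,
    ← two_mul] at h1
  rw [polar_comm]
  exact (mul_eq_zero.1 h1).resolve_left h2

/-- An improper similarity with scalar square is a scalar multiple of an involutive isometry, or
has multiplier equal to its non-square scalar in odd degree. -/
theorem improper_shape (h2 : (2 : F) ≠ 0) (hE : EvenForm Q n) (g : linSim Q) (hg : ¬ IsProper n g)
    {l : F} (hl : ∀ v, (g.1 : Equiv.Perm V) ((g.1 : Equiv.Perm V) v) = l • v) :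
    (∃ (k : orth Q) (s : F), (∀ v, (g.1 : Equiv.Perm V) v = s • (k : V ≃ₗ[F] V) v) ∧
        (∀ v, (k : V ≃ₗ[F] V) ((k : V ≃ₗ[F] V) v) = v) ∧ dick k = -1) ∨
      (¬ IsSquare l ∧ simMult g.1 = l ∧ Odd n) := by
  haveI := hE.nontrivial
  obtain ⟨v₀, hv₀⟩ := hE.exists_ne
  set μ := simMult g.1 with hμ
  have hμ0 : μ ≠ 0 := (isSemiSim g.1).ne_zero
  have hsq : l ^ 2 = μ ^ 2 := by
    have h1 := linSim_app Q g ((g.1 : Equiv.Perm V) v₀)
    rw [hl, qf_smul, linSim_app] at h1
    refine mul_right_cancel₀ hv₀ ?_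
    linear_combination h1
  have hl0 : l ≠ 0 := fun h => hμ0 (by simpa [h] using hsq.symm)
  set T : V →ₗ[F] V := (linSimEquiv g : V →ₗ[F] V)
  have hT : ∀ v, T (T v) = l • v := hl
  have hndet : LinearMap.det T ≠ μ ^ n := fun h => hg ⟨fun _ => h, fun h' => absurd h' h2⟩
  by_cases hls : IsSquare l
  · obtain ⟨s, hs⟩ := hls
    have hs0 : s ≠ 0 := fun h => hl0 (by rw [hs, h, mul_zero])
    rcases sq_eq_sq_iff_eq_or_eq_neg.1 hsq with h | h
    · obtain ⟨k, t, hk⟩ := exists_smul_orth_of_isSquare hE g ⟨s, by rw [← hμ, ← h, hs]⟩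
      obtain ⟨ht, ht0⟩ := mult_of_smul hE g k hk
      refine Or.inl ⟨k, t, hk, fun v => ?_, ?_⟩
      · have h1 := hl v
        rw [hk, hk, map_smul, smul_smul, ← sq, ← ht, ← hμ, h] at h1
        exact smul_right_injective V hμ0 h1
      · exact (Int.units_eq_one_or _).resolve_left fun hd => hg ((isProper_smul_iff hE g k hk).2 hd)
    · exfalso
      set P : V →ₗ[F] V := s⁻¹ • T with hP
      have hPP : ∀ v, P (P v) = v := fun v => by
        simp only [hP, LinearMap.smul_apply, map_smul, hT, smul_smul, hs]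
        rw [show s⁻¹ * (s⁻¹ * (s * s)) = 1 by field_simp, one_smul]
      have hQP : ∀ v, Q (P v) = -Q v := fun v => by
        change Q (s⁻¹ • (g.1 : Equiv.Perm V) v) = _
        rw [qf_smul, linSim_app, ← hμ]
        field_simp
        linear_combination (Q v) * h - (Q v) * hs
      obtain ⟨hdim, hdet⟩ := det_involution h2 P hPP
      have hsing : ∀ (e : F), e * e = 1 → ∀ v, P v = e • v → Q v = 0 := by
        intro e he v hv
        have h1 := hQP v
        rw [hv, qf_smul, sq, he, one_mul, eq_neg_iff_add_eq_zero, ← two_mul] at h1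
        exact (mul_eq_zero.1 h1).resolve_left h2
      have h1 := two_mul_finrank_le hE.nondeg (W := LinearMap.ker (P - 1)) fun v hv =>
        hsing 1 (one_mul 1) v (by simpa [sub_eq_zero] using hv)
      have h3 := two_mul_finrank_le hE.nondeg (W := LinearMap.ker (P + 1)) fun v hv =>
        hsing (-1) (by ring) v (by simpa [add_eq_zero_iff_eq_neg] using hv)
      rw [hE.rank] at hdim h1 h3
      rw [show finrank F (LinearMap.ker (P + 1)) = n by omega, hP, LinearMap.det_smul, hE.rank] at hdet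
      refine hndet ?_
      have hsn : (s⁻¹) ^ (2 * n) ≠ 0 := pow_ne_zero _ (inv_ne_zero hs0)
      refine mul_left_cancel₀ hsn ?_
      have hμs : μ = -(s * s) := by linear_combination h - hs
      rw [hdet, hμs, neg_pow (s * s), inv_pow, pow_mul, sq, ← mul_pow]
      field_simp
      rw [neg_pow (s ^ 2)]
  · obtain ⟨j, hj, hdet⟩ := det_of_sq_nonsquare hls _ (⊥ : Submodule F V) T bot_le rfl hT
    have hjn : j = n := by
      have := Submodule.finrank_quotient_add_finrank (⊥ : Submodule F V)
      rw [finrank_bot, add_zero, hE.rank, hj] at this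
      omega
    subst hjn
    have hdetT : LinearMap.det T = (-l) ^ j := by
      rw [← hdet, ← LinearMap.det_conj T (Submodule.quotEquivOfEqBot (⊥ : Submodule F V) rfl).symm]
      congr 1
      refine LinearMap.ext fun x => ?_
      obtain ⟨y, rfl⟩ := (⊥ : Submodule F V).mkQ_surjective x
      rfl
    rcases sq_eq_sq_iff_eq_or_eq_neg.1 hsq with h | h
    · refine Or.inr ⟨hls, h.symm, (Nat.even_or_odd j).resolve_left fun he => hndet ?_⟩
      rw [hdetT, he.neg_pow, h]
    · refine absurd ?_ hndet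
      rw [hdetT, h, neg_neg]

/-- A reflection in an eigenvector commutes with the involution. -/
theorem refl_comm_eigen (k : orth Q) (hk : ∀ v, (k : V ≃ₗ[F] V) ((k : V ≃ₗ[F] V) v) = v)
    {e : F} (he : e * e = 1) {w : V} (hw : (k : V ≃ₗ[F] V) w = e • w) (x : V) :
    (refl Q w : V ≃ₗ[F] V) ((k : V ≃ₗ[F] V) x) = (k : V ≃ₗ[F] V) ((refl Q w : V ≃ₗ[F] V) x) := by
  have h1 : polar Q w ((k : V ≃ₗ[F] V) x) = e * polar Q w x := by
    have h := H5.orth_polar k w ((k : V ≃ₗ[F] V) x)
    rw [hk, hw, polar_smul_left, smul_eq_mul] at h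
    exact h.symm
  rw [refl_apply, refl_apply, map_sub, map_smul, hw, smul_smul, h1]
  congr 2
  ring

/-- An involutive isometry commutes with a special isometry of non-trivial spinor norm. -/
theorem exists_comm_of_involution (h2 : (2 : F) ≠ 0) (hE : EvenForm Q n) (k : orth Q)
    (hk : ∀ v, (k : V ≃ₗ[F] V) ((k : V ≃ₗ[F] V) v) = v) :
    ∃ r : orth Q, dick r = 1 ∧ spin Q r = -1 ∧
      ∀ x, (r : V ≃ₗ[F] V) ((k : V ≃ₗ[F] V) x) = (k : V ≃ₗ[F] V) ((r : V ≃ₗ[F] V) x) := by
  obtain ⟨hdim, -⟩ := det_involution h2 ((k : V ≃ₗ[F] V) : V →ₗ[F] V) hk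
  have hn := hE.three_le
  rw [hE.rank] at hdim
  obtain ⟨e, E, he, hEe, hE2⟩ : ∃ (e : F) (E : Submodule F V), (e = 1 ∨ e = -1) ∧
      (∀ v, v ∈ E ↔ (k : V ≃ₗ[F] V) v = e • v) ∧ 2 ≤ finrank F E := by
    by_cases h : 2 ≤ finrank F (LinearMap.ker (((k : V ≃ₗ[F] V) : V →ₗ[F] V) - 1))
    · exact ⟨1, _, Or.inl rfl, fun v => by simp [sub_eq_zero], h⟩
    · exact ⟨-1, LinearMap.ker (((k : V ≃ₗ[F] V) : V →ₗ[F] V) + 1), Or.inr rfl,
        fun v => by simp [add_eq_zero_iff_eq_neg], by omega⟩
  have hee : e * e = 1 := by rcases he with rfl | rfl <;> ring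
  have hnd := H5.restrict_nondegenerate (eigen_inf_perp h2 hE.nondeg k hk he hEe)
  obtain ⟨c, hc⟩ := H5.exists_not_isSquare h2
  have hc0 : c ≠ 0 := fun h => hc (h ▸ IsSquare.zero)
  haveI := Fintype.ofFinite F
  obtain ⟨u, -, hu⟩ := exists_value (Q := Q.restrict E) hnd hE2 (one_ne_zero (α := F))
  obtain ⟨w, -, hw⟩ := exists_value (Q := Q.restrict E) hnd hE2 hc0
  have hu' : Q (u : V) = 1 := hu
  have hw' : Q (w : V) = c := hw
  have hu0 : Q (u : V) ≠ 0 := by rw [hu']; exact one_ne_zero
  have hw0 : Q (w : V) ≠ 0 := by rw [hw']; exact hc0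
  refine ⟨refl Q u * refl Q w, ?_, ?_, fun x => ?_⟩
  · rw [hE.dick_hom, H5.dick_refl hE.nondeg hu0, H5.dick_refl hE.nondeg hw0]; decide
  · rw [map_mul, H5.spin_refl hu0, H5.spin_refl hw0, hu', hw', H5.sqc_one,
      H5.sqc_eq_neg_one_iff.2 hc, one_mul]
  · rw [orth_mul_apply, orth_mul_apply, refl_comm_eigen k hk hee ((hEe _).1 w.2),
      refl_comm_eigen k hk hee ((hEe _).1 u.2)]

omit [FiniteDimensional F V] [Finite F] [Finite V] in
/-- The data of a vector in the two-dimensional subspace of a self-adjoint map. -/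
theorem plane_values (g : V →ₗ[F] V) {μ : F} (hQg : ∀ v, Q (g v) = μ * Q v)
    (hgg : ∀ v, g (g v) = μ • v) (x y : F) (v : V) :
    Q (x • v + y • g v) = (x ^ 2 + μ * y ^ 2) * Q v + x * y * polar Q v (g v) ∧
      polar Q (x • v + y • g v) (g (x • v + y • g v)) =
        (x ^ 2 + μ * y ^ 2) * polar Q v (g v) + 4 * μ * x * y * Q v := by
  have hgv : ∀ a, polar Q a a = 2 * Q a := fun a => H5.polar_self' (Q := Q) a
  constructor
  · rw [QuadraticMap.map_add Q, qf_smul, qf_smul, hQg, polar_smul_left, polar_smul_right, smul_eq_mul, smul_eq_mul]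
    ring
  · rw [map_add, map_smul, map_smul, hgg, smul_smul]
    simp only [polar_add_left, polar_add_right, polar_smul_left, polar_smul_right, smul_eq_mul]
    rw [hgv, hgv, hQg, polar_comm Q (g v) v]
    ring

omit [FiniteDimensional F V] [Finite V] in
/-- A binary form with non-zero coefficients represents every non-zero value. -/
theorem exists_binary [Fintype F] (h2 : (2 : F) ≠ 0) {α β γ : F} (hα : α ≠ 0) (hβ : β ≠ 0) :
    ∃ X Y : F, α * X ^ 2 + β * Y ^ 2 + γ = 0 := by
  obtain ⟨X, Y, h⟩ := FiniteField.exists_root_sum_quadratic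
    (f := Polynomial.C α * Polynomial.X ^ 2) (g := Polynomial.C β * Polynomial.X ^ 2 + Polynomial.C γ)
    (Polynomial.degree_C_mul_X_pow 2 hα)
    (by rw [Polynomial.degree_add_C (by rw [Polynomial.degree_C_mul_X_pow 2 hβ]; norm_num),
      Polynomial.degree_C_mul_X_pow 2 hβ]; rfl)
    (Nat.odd_iff.1 (Nat.odd_iff.2 (FiniteField.odd_card_of_char_ne_two fun h => h2 (by
      haveI := ringChar.of_eq h
      exact CharTwo.two_eq_zero))))
  refine ⟨X, Y, ?_⟩
  simp only [Polynomial.eval_add, Polynomial.eval_mul, Polynomial.eval_C, Polynomial.eval_pow,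
    Polynomial.eval_X] at h
  linear_combination h

/-- The vector with non-zero value orthogonal to its image. -/
theorem exists_ortho_image (h2 : (2 : F) ≠ 0) (hE : EvenForm Q n) (g : V →ₗ[F] V) {μ : F}
    (hμ : ¬ IsSquare μ) (hQg : ∀ v, Q (g v) = μ * Q v) (hgg : ∀ v, g (g v) = μ • v) :
    ∃ v, Q v ≠ 0 ∧ polar Q v (g v) = 0 := by
  haveI := Fintype.ofFinite F
  have hμ0 : μ ≠ 0 := fun h => hμ (h ▸ IsSquare.zero)
  have hadj : ∀ a b, polar Q (g a) b = polar Q a (g b) := fun a b => by
    have h1 : polar Q (g a) (g (g b)) = μ * polar Q a (g b) := by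
      simp only [QuadraticMap.polar, ← map_add, hQg]
      ring
    rw [hgg, polar_smul_right, smul_eq_mul] at h1
    exact mul_left_cancel₀ hμ0 h1
  obtain ⟨v, hv⟩ := hE.exists_ne
  set a := Q v with ha
  set h := polar Q v (g v) with hh
  by_cases hh0 : h = 0
  · exact ⟨v, hv, hh0⟩
  have hdisc : h ^ 2 - 4 * μ * a ^ 2 ≠ 0 := fun h0 => hμ ⟨h / (2 * a), by
    field_simp
    linear_combination -h0⟩
  set P := Submodule.span F {v, g v} with hP
  have hPmem : ∀ z ∈ P, ∃ x y : F, x • v + y • g v = z := fun z hz => Submodule.mem_span_pair.1 hz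
  have hvP : v ∈ P := Submodule.subset_span (by simp)
  have hgvP : g v ∈ P := Submodule.subset_span (by simp)
  have hPbot : P ⊓ H5.perp Q P = ⊥ := by
    rw [eq_bot_iff]
    rintro z ⟨hz, hzp⟩
    obtain ⟨x, y, rfl⟩ := hPmem z hz
    have e1 := (H5.mem_perp.1 hzp) v hvP
    have e2 := (H5.mem_perp.1 hzp) (g v) hgvP
    rw [polar_add_right, polar_smul_right, polar_smul_right, smul_eq_mul, smul_eq_mul,
      H5.polar_self', ← hh, ← ha] at e1
    rw [polar_add_right, polar_smul_right, polar_smul_right, smul_eq_mul, smul_eq_mul,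
      H5.polar_self', hQg, polar_comm, ← hh, ← ha] at e2
    have hy : y = 0 := (mul_eq_zero.1 (show y * (h ^ 2 - 4 * μ * a ^ 2) = 0 by
      linear_combination h * e1 - 2 * a * e2)).resolve_right hdisc
    subst hy
    have hx : x = 0 := (mul_eq_zero.1 (show x * h = 0 by linear_combination e2)).resolve_right hh0
    simp [hx]
  have hperp : 2 ≤ finrank F (H5.perp Q P) := by
    have h1 := H5.finrank_perp_add hE.nondeg P
    have h3 : finrank F P ≤ 2 := by
      classical
      rw [hP, show ({v, g v} : Set V) = ↑({v, g v} : Finset V) by simp]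
      exact (finrank_span_finset_le_card _).trans (Finset.card_insert_le _ _)
    have := hE.rank
    have := hE.three_le
    omega
  have hnd : (polarBilin (Q.restrict (H5.perp Q P))).Nondegenerate := by
    refine H5.restrict_nondegenerate (le_bot_iff.1 ?_)
    rintro z ⟨hz, hzp⟩
    rw [Submodule.mem_bot]
    refine eq_zero_of_polar hE.nondeg fun y => ?_
    have htop : P ⊔ H5.perp Q P = ⊤ := by
      refine Submodule.eq_top_of_finrank_eq ?_
      have h1 := Submodule.finrank_sup_add_finrank_inf_eq P (H5.perp Q P)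
      rw [hPbot, finrank_bot, add_zero] at h1
      rw [h1, add_comm, H5.finrank_perp_add hE.nondeg P]
    obtain ⟨p, hp, p', hp', rfl⟩ := Submodule.mem_sup.1 (htop ▸ Submodule.mem_top : y ∈ P ⊔ H5.perp Q P)
    rw [polar_add_right, polar_comm Q z p, (H5.mem_perp.1 hz) p hp, polar_comm Q z p',
      (H5.mem_perp.1 hzp) p' hp', add_zero]
  obtain ⟨⟨u, hu⟩, -, hu1⟩ := exists_value (Q := Q.restrict (H5.perp Q P)) hnd hperp (one_ne_zero (α := F))
  have hu1' : Q u = 1 := hu1
  set k := polar Q u (g u) with hk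
  by_cases hk0 : k = 0
  · exact ⟨u, by rw [hu1']; exact one_ne_zero, hk0⟩
  have hpu : ∀ p ∈ P, polar Q p u = 0 := H5.mem_perp.1 hu
  have hpgu : ∀ p ∈ P, polar Q p (g u) = 0 := fun p hp => by
    rw [← hadj]
    refine hpu _ ?_
    obtain ⟨x, y, rfl⟩ := hPmem p hp
    rw [map_add, map_smul, map_smul, hgg, smul_smul]
    exact add_mem (Submodule.smul_mem _ _ hgvP) (Submodule.smul_mem _ _ hvP)
  -- a zero of the polar form of the image, with coefficient one at `u`
  have hβ : μ * (h ^ 2 - 4 * μ * a ^ 2) / h ≠ 0 := div_ne_zero (mul_ne_zero hμ0 hdisc) hh0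
  obtain ⟨X, y, hXy⟩ := exists_binary (γ := k) h2 hh0 hβ
  set x := X - 2 * μ * a * y / h with hx
  have hH : (x ^ 2 + μ * y ^ 2) * h + 4 * μ * x * y * a + k = 0 := by
    rw [hx]
    field_simp at hXy ⊢
    linear_combination hXy
  set v' := x • v + y • g v with hv'
  obtain ⟨hQv', hHv'⟩ := plane_values g hQg hgg x y v
  rw [← hv', ← ha, ← hh] at hQv' hHv'
  have hv'P : v' ∈ P := add_mem (Submodule.smul_mem _ _ hvP) (Submodule.smul_mem _ _ hgvP)
  have hgv'P : g v' ∈ P := by
    rw [hv', map_add, map_smul, map_smul, hgg, smul_smul]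
    exact add_mem (Submodule.smul_mem _ _ hgvP) (Submodule.smul_mem _ _ hvP)
  have hk' : polar Q v' (g v') = -k := by linear_combination hHv' + hH
  by_cases hQ1 : Q v' = -1
  swap
  · refine ⟨v' + u, ?_, ?_⟩
    · rw [QuadraticMap.map_add Q, hu1', hpu _ hv'P, add_zero]
      exact fun h0 => hQ1 (by linear_combination h0)
    · rw [map_add, polar_add_left, polar_add_right, polar_add_right, hpgu _ hv'P,
        polar_comm Q u (g v'), hpu _ hgv'P, hk', ← hk]
      ring
  -- both values cancel: move `u` inside its own plane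
  set c := 4 * μ / k with hc
  obtain ⟨r, hr⟩ : ∃ r : F, 2 * r - c ≠ 0 := by
    by_cases hc0 : c = 0
    · exact ⟨1, by rw [hc0, sub_zero, mul_one]; exact h2⟩
    · exact ⟨0, by rw [mul_zero, zero_sub]; exact neg_ne_zero.2 hc0⟩
  set X' := (μ - r ^ 2) / (2 * r - c) with hX'
  have hX0 : X' ≠ 0 := div_ne_zero (sub_ne_zero.2 fun h0 => hμ ⟨r, by rw [h0, sq]⟩) hr
  set t := X' + r with ht
  have heq : t ^ 2 = X' ^ 2 + c * X' + μ := by
    have h1 : X' * (2 * r - c) = μ - r ^ 2 := by rw [hX', div_mul_cancel₀ _ hr]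
    rw [ht]
    linear_combination h1
  obtain ⟨hQu', hHu'⟩ := plane_values g hQg hgg X' 1 u
  rw [hu1', ← hk] at hQu' hHu'
  set u' := X' • u + (1 : F) • g u with hu'
  have hpu' : ∀ p ∈ P, polar Q p u' = 0 := fun p hp => by
    rw [hu', polar_add_right, polar_smul_right, polar_smul_right, hpu p hp, hpgu p hp, smul_zero,
      smul_zero, add_zero]
  have hpgu' : polar Q v' (g u') = 0 := by
    rw [← hadj]; exact hpu' _ hgv'P
  refine ⟨t • v' + u', ?_, ?_⟩
  · rw [QuadraticMap.map_add Q, qf_smul, hQ1, hQu', polar_smul_left, hpu' _ hv'P, smul_zero, add_zero]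
    intro h0
    have h1 : X' * (4 * μ - k ^ 2) = 0 := by
      have hck : c * k = 4 * μ := by rw [hc, div_mul_cancel₀ _ hk0]
      linear_combination (-k) * h0 - k * heq - X' * hck
    rcases mul_eq_zero.1 h1 with h3 | h3
    · exact hX0 h3
    · exact hμ ⟨k / 2, by field_simp; linear_combination h3⟩
  · rw [map_add, map_smul, polar_add_left, polar_add_right, polar_add_right, polar_smul_left,
      polar_smul_left, polar_smul_right, polar_smul_right, hk', hHu', hpgu',
      polar_comm Q u' (g v'), hpu' _ hgv'P]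
    have hck : c * k = 4 * μ := by rw [hc, div_mul_cancel₀ _ hk0]
    simp only [smul_eq_mul]
    linear_combination (-k) * heq - X' * hck

/-- A special isometry of non-trivial spinor norm commuting with a similarity whose multiplier is
a non-square equal to the scalar of its square. -/
theorem exists_comm_of_nonsquare (h2 : (2 : F) ≠ 0) (hE : EvenForm Q n) (g : linSim Q) {μ : F}
    (hμ : ¬ IsSquare μ) (hm : simMult g.1 = μ)
    (hgg : ∀ v, (g.1 : Equiv.Perm V) ((g.1 : Equiv.Perm V) v) = μ • v) :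
    ∃ r : orth Q, dick r = 1 ∧ spin Q r = -1 ∧
      ∀ x, (r : V ≃ₗ[F] V) ((g.1 : Equiv.Perm V) x) = (g.1 : Equiv.Perm V) ((r : V ≃ₗ[F] V) x) := by
  haveI := hE.nontrivial
  set T : V →ₗ[F] V := (linSimEquiv g : V →ₗ[F] V) with hT
  have hQg : ∀ v, Q (T v) = μ * Q v := fun v => by rw [← hm]; exact linSim_app Q g v
  have hgg' : ∀ v, T (T v) = μ • v := hgg
  have hμ0 : μ ≠ 0 := fun h => hμ (h ▸ IsSquare.zero)
  obtain ⟨v, hv, hvg⟩ := exists_ortho_image h2 hE T hμ hQg hgg'
  have hgv : Q (T v) ≠ 0 := by rw [hQg]; exact mul_ne_zero hμ0 hv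
  have hadj : ∀ a b, polar Q (T a) (T b) = μ * polar Q a b := fun a b => by
    simp only [QuadraticMap.polar, ← map_add, hQg]
    ring
  have hadj' : ∀ a b, polar Q (T a) b = polar Q a (T b) := fun a b => by
    have h1 := hadj a (T b)
    rw [hgg', polar_smul_right, smul_eq_mul] at h1
    exact mul_left_cancel₀ hμ0 h1
  refine ⟨refl Q v * refl Q (T v), ?_, ?_, fun x => ?_⟩
  · rw [hE.dick_hom, H5.dick_refl hE.nondeg hv, H5.dick_refl hE.nondeg hgv]; decide
  · rw [map_mul, H5.spin_refl hv, H5.spin_refl hgv, hQg, H5.sqc_mul hμ0 hv,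
      H5.sqc_eq_neg_one_iff.2 hμ]
    rcases Int.units_eq_one_or (sqc (Q v)) with h | h <;> rw [h] <;> decide
  · change (refl Q v * refl Q (T v) : orth Q).1 (T x) = T ((refl Q v * refl Q (T v) : orth Q).1 x)
    have hrv : ∀ w, polar Q v ((refl Q (T v) : V ≃ₗ[F] V) w) = polar Q v w := fun w => by
      rw [refl_apply, sub_eq_add_neg, ← neg_smul, polar_add_right, polar_smul_right, hvg, smul_zero,
        add_zero]
    rw [orth_mul_apply, orth_mul_apply, refl_apply Q v, refl_apply Q v, hrv, hrv, refl_apply,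
      refl_apply, map_sub, map_sub, map_smul, map_smul, hgg', smul_smul, hQg, hadj, hadj']
    match_scalars <;> field_simp

end Cfsg.Agent.H62.InvSim
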