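import Mathlib

/-!
Arranging orbits of a `p`-element, longest first, on an initial segment of the natural numbers.
-/

set_option autoImplicit false

namespace Cfsg.Agent.H62.OrbitTiling

open Equiv

variable {n : ℕ}

/-- The length of the orbit of `z`. -/
noncomputable def per (w : Perm (Fin n)) (z : Fin n) : ℕ := Function.minimalPeriod w z

theorem pow_per (w : Perm (Fin n)) (z : Fin n) : (w ^ per w z) z = z := by
  rw [Perm.coe_pow]; exact Function.iterate_minimalPeriod

theorem per_dvd_iff (w : Perm (Fin n)) (z : Fin n) (i : ℕ) : (w ^ i) z = z ↔ per w z ∣ i := by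
  rw [Perm.coe_pow]; exact Function.isPeriodicPt_iff_minimalPeriod_dvd

theorem per_dvd_pow {w : Perm (Fin n)} {p E : ℕ} (h : w ^ (p ^ E) = 1) (z : Fin n) :
    per w z ∣ p ^ E := (per_dvd_iff w z _).1 (by rw [h]; rfl)

theorem per_pos {w : Perm (Fin n)} {p E : ℕ} (hp : p.Prime) (h : w ^ (p ^ E) = 1) (z : Fin n) :
    0 < per w z := Nat.pos_of_dvd_of_pos (per_dvd_pow h z) (pow_pos hp.pos E)

theorem per_dvd_per {w : Perm (Fin n)} {p E : ℕ} (hp : p.Prime) (h : w ^ (p ^ E) = 1)
    {y z : Fin n} (hle : per w y ≤ per w z) : per w y ∣ per w z := by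
  obtain ⟨i, -, hi⟩ := (Nat.dvd_prime_pow hp).1 (per_dvd_pow h y)
  obtain ⟨j, -, hj⟩ := (Nat.dvd_prime_pow hp).1 (per_dvd_pow h z)
  rw [hi, hj] at hle ⊢
  exact pow_dvd_pow p ((Nat.pow_le_pow_iff_right hp.one_lt).1 hle)

theorem per_apply_pow (w : Perm (Fin n)) (z : Fin n) (i : ℕ) :
    per w ((w ^ i) z) = per w z := by
  have key : ∀ j, (w ^ j) ((w ^ i) z) = (w ^ i) z ↔ (w ^ j) z = z := fun j => by
    rw [← Perm.mul_apply, ← pow_add, add_comm, pow_add, Perm.mul_apply]
    exact (w ^ i).injective.eq_iff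
  refine Nat.dvd_antisymm ?_ ?_
  · rw [← per_dvd_iff, key]; exact pow_per w z
  · rw [← per_dvd_iff, ← key]; exact pow_per w _

theorem pow_mod_per (w : Perm (Fin n)) (z : Fin n) (i : ℕ) :
    (w ^ (i % per w z)) z = (w ^ i) z := by
  conv_rhs => rw [← Nat.mod_add_div i (per w z), pow_add, Perm.mul_apply]
  rw [(per_dvd_iff w z _).2 (dvd_mul_right _ _)]

/-- The first `T` natural numbers are tiled, longest first, by orbits of `w`. -/
structure Good (w : Perm (Fin n)) (T : ℕ) (f : ℕ → Fin n) (b : ℕ → ℕ) : Prop where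
  inj : ∀ x < T, ∀ y < T, f x = f y → x = y
  bper : ∀ x < T, b x = per w (f x)
  seg : ∀ x < T, x / b x * b x + b x ≤ T
  const : ∀ x < T, ∀ i < b x, b (x / b x * b x + i) = b x
  align : ∀ x < T, f x = (w ^ (x % b x)) (f (x / b x * b x))
  anti : ∀ x y, x ≤ y → y < T → b y ≤ b x
  rest : ∀ z, (∀ x < T, f x ≠ z) → per w z ∣ T ∧ ∀ x < T, per w z ≤ b x

namespace Good

variable {w : Perm (Fin n)} {T : ℕ} {f : ℕ → Fin n} {b : ℕ → ℕ}

theorem b_pos (h : Good w T f b) {p E : ℕ} (hp : p.Prime) (hw : w ^ (p ^ E) = 1) {x : ℕ}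
    (hx : x < T) : 0 < b x := h.bper x hx ▸ per_pos hp hw _

theorem apply_next (h : Good w T f b) {p E : ℕ} (hp : p.Prime) (hw : w ^ (p ^ E) = 1) {x : ℕ}
    (hx : x < T) : w (f x) = f (x / b x * b x + (x % b x + 1) % b x) ∧
      x / b x * b x + (x % b x + 1) % b x < T := by
  have hb := h.b_pos hp hw hx
  have hseg := h.seg x hx
  set s := x / b x * b x with hs
  have hlt : (x % b x + 1) % b x < b x := Nat.mod_lt _ hb
  refine ⟨?_, by omega⟩
  have hd : (s + (x % b x + 1) % b x) / b x * b x = s ∧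
      (s + (x % b x + 1) % b x) % b x = (x % b x + 1) % b x := by
    rw [hs, mul_comm (x / b x)]
    constructor
    · rw [Nat.mul_add_div hb, Nat.div_eq_of_lt hlt, add_zero, mul_comm]
    · rw [Nat.mul_add_mod, Nat.mod_mod]
  have hc := h.const x hx _ hlt
  rw [← hs] at hc
  have hper : per w (f s) = b x := by
    rw [← h.bper s (by omega)]
    simpa using h.const x hx 0 hb
  rw [h.align x hx, ← hs, h.align (s + (x % b x + 1) % b x) (by omega), hc, hd.1, hd.2, ← hper,
    pow_mod_per, ← Perm.mul_apply, ← pow_succ', pow_mod_per, pow_succ' w (x % per w (f s)),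
    Perm.mul_apply, pow_mod_per, ← Perm.mul_apply, ← pow_succ']

theorem preimage (h : Good w T f b) {p E : ℕ} (hp : p.Prime) (hw : w ^ (p ^ E) = 1) (i : ℕ) :
    ∀ x < T, ∃ y < T, (w ^ i) (f x) = f y := by
  induction i with
  | zero => exact fun x hx => ⟨x, hx, by simp⟩
  | succ i ih =>
    intro x hx
    obtain ⟨y, hy, he⟩ := ih x hx
    exact ⟨_, (h.apply_next hp hw hy).2,
      by rw [pow_succ', Perm.mul_apply, he, (h.apply_next hp hw hy).1]⟩

end Good

theorem exists_good_step {w : Perm (Fin n)} {p E : ℕ} (hp : p.Prime) (hw : w ^ (p ^ E) = 1)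
    {a : ℕ} (han : a ≤ n) (hfit : (∀ z, per w z ∣ a) ∨ a = n) {T : ℕ} (hT : T < a)
    {f : ℕ → Fin n} {b : ℕ → ℕ} (h : Good w T f b) :
    ∃ T' f' b', T < T' ∧ T' ≤ a ∧ Good w T' f' b' := by
  classical
  let im : Finset (Fin n) := (Finset.range T).image f
  have him : im.card = T := by
    rw [Finset.card_image_of_injOn, Finset.card_range]
    intro x hx y hy
    exact h.inj x (by simpa using hx) y (by simpa using hy)
  have hout : ∀ z, z ∈ imᶜ ↔ ∀ x < T, f x ≠ z := fun z => by simp [im]
  have hne : imᶜ.Nonempty := by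
    rw [← Finset.card_pos, Finset.card_compl, him, Fintype.card_fin]; omega
  obtain ⟨z, hz, hmax⟩ := Finset.exists_max_image imᶜ (per w) hne
  rw [hout] at hz
  set c := per w z with hc
  have hc0 : 0 < c := per_pos hp hw z
  have hcT : c ∣ T := (h.rest z hz).1
  have horb : ∀ i, ∀ x < T, f x ≠ (w ^ i) z := fun i x hx he => by
    have hi : i ≤ i * c := Nat.le_mul_of_pos_right i hc0
    obtain ⟨y, hy, hy'⟩ := h.preimage hp hw (i * c - i) x hx
    refine hz y hy ?_
    rw [← hy', he, ← Perm.mul_apply, ← pow_add, Nat.sub_add_cancel hi, per_dvd_iff]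
    exact dvd_mul_left _ _
  have hinjo : ∀ i < c, ∀ j < c, (w ^ i) z = (w ^ j) z → i = j := fun i hi j hj he => by
    rw [Perm.coe_pow, Perm.coe_pow] at he
    exact (Function.iterate_eq_iterate_iff_of_lt_minimalPeriod hi hj).1 he
  let f' : ℕ → Fin n := fun x => if x < T then f x else (w ^ (x - T)) z
  let b' : ℕ → ℕ := fun x => if x < T then b x else c
  have fo : ∀ x < T, f' x = f x := fun x hx => if_pos hx
  have fn : ∀ x, ¬ x < T → f' x = (w ^ (x - T)) z := fun x hx => if_neg hx
  have bo : ∀ x < T, b' x = b x := fun x hx => if_pos hx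
  have bn : ∀ x, ¬ x < T → b' x = c := fun x hx => if_neg hx
  have hnew : ∀ x, ¬ x < T → x < T + c → x / c * c = T ∧ x % c = x - T := fun x h1 h2 => by
    obtain ⟨t, ht⟩ := hcT
    have h3 : x / c = t := Nat.div_eq_of_lt_le (by rw [mul_comm, ← ht]; omega)
      (by rw [add_mul, mul_comm, ← ht]; omega)
    refine ⟨by rw [h3, mul_comm, ← ht], ?_⟩
    have := Nat.mod_add_div x c
    rw [h3, ← ht] at this
    omega
  have hinj : ∀ x < T + c, ∀ y < T + c, f' x = f' y → x = y := fun x hx y hy he => by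
    by_cases h1 : x < T <;> by_cases h2 : y < T
    · rw [fo x h1, fo y h2] at he; exact h.inj x h1 y h2 he
    · rw [fo x h1, fn y h2] at he; exact absurd he (horb _ x h1)
    · rw [fn x h1, fo y h2] at he; exact absurd he.symm (horb _ y h2)
    · rw [fn x h1, fn y h2] at he
      have := hinjo _ (by omega) _ (by omega) he
      omega
  have hle : T + c ≤ a := by
    rcases hfit with hd | rfl
    · obtain ⟨d, hd'⟩ := Nat.dvd_sub (show c ∣ a from hd z) hcT
      rcases Nat.eq_zero_or_pos d with rfl | hd0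
      · omega
      · have : c ≤ c * d := Nat.le_mul_of_pos_right c hd0
        omega
    · have hi : Function.Injective (fun x : Fin (T + c) => f' x) :=
        fun x y he => Fin.ext (hinj _ x.isLt _ y.isLt he)
      simpa using Fintype.card_le_of_injective _ hi
  refine ⟨T + c, f', b', by omega, hle, hinj, ?_, ?_, ?_, ?_, ?_, ?_⟩
  · intro x hx
    by_cases h1 : x < T
    · rw [fo x h1, bo x h1, h.bper x h1]
    · rw [fn x h1, bn x h1, per_apply_pow]
  · intro x hx
    by_cases h1 : x < T
    · rw [bo x h1]; have := h.seg x h1; omega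
    · rw [bn x h1, (hnew x h1 hx).1]
  · intro x hx i hi
    by_cases h1 : x < T
    · rw [bo x h1] at hi ⊢
      have := h.seg x h1
      rw [bo _ (by omega), h.const x h1 i hi]
    · rw [bn x h1] at hi ⊢
      rw [(hnew x h1 hx).1, bn _ (by omega)]
  · intro x hx
    by_cases h1 : x < T
    · have := h.seg x h1
      have := h.b_pos hp hw h1
      rw [fo x h1, bo x h1, fo _ (by omega), h.align x h1]
    · rw [fn x h1, bn x h1, (hnew x h1 hx).1, (hnew x h1 hx).2, fn T (lt_irrefl T), Nat.sub_self,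
        pow_zero, Perm.one_apply]
  · intro x y hxy hy
    by_cases h2 : y < T
    · rw [bo x (by omega), bo y h2]; exact h.anti x y hxy h2
    · rw [bn y h2]
      by_cases h1 : x < T
      · rw [bo x h1]; exact (h.rest z hz).2 x h1
      · rw [bn x h1]
  · intro y hy
    have hy' : ∀ x < T, f x ≠ y := fun x hx => fo x hx ▸ hy x (by omega)
    have hyle : per w y ≤ c := hmax y ((hout y).2 hy')
    refine ⟨Nat.dvd_add (h.rest y hy').1 (per_dvd_per hp hw hyle), fun x _ => ?_⟩
    by_cases h1 : x < T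
    · rw [bo x h1]; exact (h.rest y hy').2 x h1
    · rw [bn x h1]; exact hyle

/-- Orbits of a `p`-element can be tiled onto `a` points. -/
theorem exists_good {w : Perm (Fin n)} {p E : ℕ} (hp : p.Prime) (hw : w ^ (p ^ E) = 1)
    {a : ℕ} (ha : 0 < a) (han : a ≤ n) (hfit : (∀ z, per w z ∣ a) ∨ a = n) :
    ∃ f b, Good w a f b := by
  have key : ∀ d T f b, d = a - T → T ≤ a → Good w T f b → ∃ f b, Good w a f b := by
    intro d
    induction d using Nat.strong_induction_on with
    | _ d ih =>
      intro T f b hd hT h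
      rcases hT.eq_or_lt with rfl | hlt
      · exact ⟨f, b, h⟩
      obtain ⟨T', f', b', h1, h2, h3⟩ := exists_good_step hp hw han hfit hlt h
      exact ih (a - T') (by omega) T' f' b' rfl h2 h3
  refine key a 0 (fun _ => ⟨0, by omega⟩) (fun _ => 0) rfl (Nat.zero_le _) ⟨?_, ?_, ?_, ?_, ?_, ?_, ?_⟩ <;>
    first
      | exact fun x hx => absurd hx (Nat.not_lt_zero x)
      | exact fun x y _ hy => absurd hy (Nat.not_lt_zero y)
      | exact fun z _ => ⟨dvd_zero _, fun x hx => absurd hx (Nat.not_lt_zero x)⟩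

namespace Good

variable {w : Perm (Fin n)} {a : ℕ} {f : ℕ → Fin n} {b : ℕ → ℕ}

theorem b_eq (h : Good w a f b) {p E : ℕ} (hp : p.Prime) (hw : w ^ (p ^ E) = 1) {x : ℕ}
    (hx : x < a) : ∃ i, b x = p ^ i := by
  obtain ⟨i, -, hi⟩ := (Nat.dvd_prime_pow hp).1 (per_dvd_pow hw (f x))
  exact ⟨i, (h.bper x hx).trans hi⟩

/-- The first orbit is a longest one. -/
theorem per_le_first (h : Good w a f b) (ha : 0 < a) (z : Fin n) : per w z ≤ b 0 := by
  by_cases hz : ∀ x < a, f x ≠ z
  · exact (h.rest z hz).2 0 ha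
  · push Not at hz
    obtain ⟨x, hx, rfl⟩ := hz
    rw [← h.bper x hx]
    exact h.anti 0 x (Nat.zero_le _) hx

/-- The embedding given by a tiling. -/
def emb (h : Good w a f b) : Fin a ↪ Fin n :=
  ⟨fun x => f x, fun x y he => Fin.ext (h.inj _ x.isLt _ y.isLt he)⟩

/-- The permutation of the tiled points. -/
theorem exists_restrict (h : Good w a f b) {p E : ℕ} (hp : p.Prime) (hw : w ^ (p ^ E) = 1) :
    ∃ W : Perm (Fin a), (∀ x, w (h.emb x) = h.emb (W x)) ∧
      (∀ x : Fin a, (W x).val = x.val / b x * b x + (x.val % b x + 1) % b x) ∧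
      W ^ (p ^ E) = 1 := by
  classical
  let F : Fin a → Fin a := fun x => ⟨_, (h.apply_next hp hw x.isLt).2⟩
  have hF : ∀ x, w (h.emb x) = h.emb (F x) := fun x => (h.apply_next hp hw x.isLt).1
  have hinj : Function.Injective F := fun x y he =>
    h.emb.injective (w.injective (by rw [hF, hF, he]))
  let W := Equiv.ofBijective F (Finite.injective_iff_bijective.1 hinj)
  refine ⟨W, hF, fun x => rfl, ?_⟩
  have hpow : ∀ i x, (w ^ i) (h.emb x) = h.emb ((W ^ i) x) := fun i => by
    induction i with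
    | zero => intro x; rfl
    | succ i ih =>
      intro x
      rw [pow_succ', pow_succ', Perm.mul_apply, ih, Perm.mul_apply]
      exact hF _
  ext x : 1
  apply h.emb.injective
  rw [← hpow, hw]
  rfl

/-- Two last orbits of equal length give an odd permutation commuting with `w`. -/
theorem exists_odd_comm (h : Good w a f b) {p E : ℕ} (hp : p.Prime) (hw : w ^ (p ^ E) = 1)
    {c : ℕ} (hc : Odd c) (hca : 2 * c ≤ a) (hdvd : c ∣ a)
    (hlast : ∀ x, a - 2 * c ≤ x → x < a → b x = c) :
    ∃ z : Perm (Fin n), Perm.sign z = -1 ∧ z * w * z⁻¹ = w := by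
  classical
  set A := a - 2 * c with hA
  set B := a - c with hB
  have key : ∀ j ≤ c, ∃ z : Perm (Fin n), Perm.sign z = (-1) ^ j ∧
      (∀ i < j, z (f (A + i)) = f (B + i) ∧ z (f (B + i)) = f (A + i)) ∧
      ∀ y, (∀ i < j, y ≠ f (A + i) ∧ y ≠ f (B + i)) → z y = y := fun j => by
    induction j with
    | zero => exact fun _ => ⟨1, by simp, fun i hi => absurd hi (Nat.not_lt_zero i), fun y _ => rfl⟩
    | succ j ih =>
      intro hj
      obtain ⟨z, hz1, hz2, hz3⟩ := ih (by omega)
      have hne : f (A + j) ≠ f (B + j) := fun e => by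
        have := h.inj _ (by omega) _ (by omega) e; omega
      refine ⟨swap (f (A + j)) (f (B + j)) * z,
        by rw [map_mul, hz1, Perm.sign_swap hne, pow_succ'], fun i hi => ?_, fun y hy => ?_⟩
      · rcases Nat.lt_succ_iff_lt_or_eq.1 hi with hi' | rfl
        · obtain ⟨e1, e2⟩ := hz2 i hi'
          have d : ∀ s t : ℕ, s < a → t < a → s ≠ t → f s ≠ f t := fun s t hs ht hst e =>
            hst (h.inj _ hs _ ht e)
          constructor
          · rw [Perm.mul_apply, e1, swap_apply_of_ne_of_ne (d _ _ (by omega) (by omega) (by omega))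
              (d _ _ (by omega) (by omega) (by omega))]
          · rw [Perm.mul_apply, e2, swap_apply_of_ne_of_ne (d _ _ (by omega) (by omega) (by omega))
              (d _ _ (by omega) (by omega) (by omega))]
        · have h1 : z (f (A + i)) = f (A + i) := hz3 _ fun l hl =>
            ⟨fun e => by have := h.inj _ (by omega) _ (by omega) e; omega,
             fun e => by have := h.inj _ (by omega) _ (by omega) e; omega⟩
          have h2 : z (f (B + i)) = f (B + i) := hz3 _ fun l hl =>
            ⟨fun e => by have := h.inj _ (by omega) _ (by omega) e; omega,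
             fun e => by have := h.inj _ (by omega) _ (by omega) e; omega⟩
          simp [Perm.mul_apply, h1, h2]
      · rw [Perm.mul_apply, hz3 y (fun i hi => hy i (by omega)),
          swap_apply_of_ne_of_ne (hy j (by omega)).1 (hy j (by omega)).2]
  obtain ⟨z, hz1, hz2, hz3⟩ := key c le_rfl
  refine ⟨z, hz1.trans hc.neg_one_pow, ?_⟩
  have hwseg : ∀ S, (S = A ∨ S = B) → ∀ i < c, w (f (S + i)) = f (S + (i + 1) % c) := by
    intro S hS i hi
    have hSd : c ∣ S := by
      rcases hS with rfl | rfl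
      · exact Nat.dvd_sub hdvd (dvd_mul_left c 2)
      · exact Nat.dvd_sub hdvd dvd_rfl
    have hlt : S + i < a := by omega
    rw [(h.apply_next hp hw hlt).1, hlast _ (by omega) hlt]
    obtain ⟨t, rfl⟩ := hSd
    rw [Nat.mul_add_div (by omega), Nat.mul_add_mod, Nat.div_eq_of_lt hi, Nat.mod_eq_of_lt hi,
      add_zero, mul_comm t c]
  have hcomm : ∀ y, z (w y) = w (z y) := fun y => by
    by_cases hy : ∀ i < c, y ≠ f (A + i) ∧ y ≠ f (B + i)
    · rw [hz3 y hy]
      refine hz3 _ fun i hi => ?_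
      have hi' : (i + (c - 1)) % c < c := Nat.mod_lt _ (by omega)
      have hback : ((i + (c - 1)) % c + 1) % c = i := by
        rw [Nat.mod_add_mod, show i + (c - 1) + 1 = i + c by omega, Nat.add_mod_right,
          Nat.mod_eq_of_lt hi]
      constructor
      · intro e
        have := hwseg A (Or.inl rfl) _ hi'
        rw [hback, ← e] at this
        exact (hy _ hi').1 (w.injective this).symm
      · intro e
        have := hwseg B (Or.inr rfl) _ hi'
        rw [hback, ← e] at this
        exact (hy _ hi').2 (w.injective this).symm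
    · push Not at hy
      obtain ⟨i, hi, hy⟩ := hy
      have hm : (i + 1) % c < c := Nat.mod_lt _ (by omega)
      by_cases h1 : y = f (A + i)
      · rw [h1, hwseg A (Or.inl rfl) i hi, (hz2 _ hm).1, (hz2 i hi).1, hwseg B (Or.inr rfl) i hi]
      · rw [hy h1, hwseg B (Or.inr rfl) i hi, (hz2 _ hm).2, (hz2 i hi).2,
          hwseg A (Or.inl rfl) i hi]
  rw [mul_inv_eq_iff_eq_mul]
  ext y : 1
  exact hcomm y

end Good

end Cfsg.Agent.H62.OrbitTiling
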