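import Cfsg.Agent.H62.CycleGroup
import Cfsg.Agent.H62.OrbitTiling

/-!
Blocks for pairs of `p`-elements: a full cycle against a conjugate of a tiled permutation.
-/

set_option autoImplicit false

namespace Cfsg.Agent.H62.PBlocks

open Equiv

/-- `U` and `V` have a product that is no `p`-element and generate a non-solvable group. -/
def GoodPair (p : ℕ) {a : ℕ} (U V : Perm (Fin a)) : Prop :=
  (¬ ∃ e, (U * V) ^ (p ^ e) = 1) ∧
    ¬ Group.IsSolvable (Subgroup.closure ({U, V} : Set (Perm (Fin a))))

/-- A test for `p`-power order. -/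
theorem not_pow_of_fixed {p a : ℕ} (hp : p.Prime) (hpa : p ∣ a) (σ : Perm (Fin a))
    (h : ¬ p ∣ (Finset.univ.filter (fun x => σ x = x)).card) : ¬ ∃ e, σ ^ (p ^ e) = 1 := by
  rintro ⟨e, he⟩
  have : Fact p.Prime := ⟨hp⟩
  have h1 := Perm.card_compl_support_modEq he
  rw [Fintype.card_fin] at h1
  refine h ?_
  have h2 : σ.supportᶜ = Finset.univ.filter (fun x => σ x = x) := by
    ext x; simp
  rw [h2] at h1
  exact (Nat.modEq_zero_iff_dvd.1 (h1.trans (Nat.modEq_zero_iff_dvd.2 hpa)))

theorem goodPair_cycle {p k : ℕ} (hp : p.Prime) (hp3 : 3 ≤ p) (hk : 1 ≤ k)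
    (V : Perm (Fin (p ^ k))) (hV : ∃ e, V ^ (p ^ e) = 1)
    (hprim : ∀ i, 1 ≤ i → i < k → ∃ x y : Fin (p ^ k),
      x.val % p ^ i = y.val % p ^ i ∧ (V x).val % p ^ i ≠ (V y).val % p ^ i)
    (hfix : ¬ p ∣ (Finset.univ.filter (fun x => (finRotate (p ^ k) * V) x = x)).card) :
    GoodPair p (finRotate (p ^ k)) V :=
  ⟨not_pow_of_fixed hp (dvd_pow_self p (by omega)) _ hfix,
    CycleGroup.not_solvable_of_cycle hp hp3 hk V hV hprim
      (not_pow_of_fixed hp (dvd_pow_self p (by omega)) _ hfix)⟩

theorem rot_val {a : ℕ} (x : Fin a) : (finRotate a x).val = (x.val + 1) % a := by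
  have := x.neZero
  rw [finRotate_apply, Fin.val_add, Fin.val_one', Nat.add_mod_mod]

theorem rot_val_ne {a : ℕ} (x : Fin a) (h : x.val + 1 < a) : (finRotate a x).val = x.val + 1 := by
  rw [rot_val, Nat.mod_eq_of_lt h]

/-- Two full cycles of length at least 5: both parities of the conjugating permutation work. -/
theorem goodPair_equal {p k : ℕ} (hp : p.Prime) (hp3 : 3 ≤ p) (hk : 1 ≤ k) (h5 : 5 ≤ p ^ k) :
    ∃ σ σ' : Perm (Fin (p ^ k)), Perm.sign σ ≠ Perm.sign σ' ∧
      GoodPair p (finRotate (p ^ k)) (σ * finRotate (p ^ k) * σ⁻¹) ∧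
      GoodPair p (finRotate (p ^ k)) (σ' * finRotate (p ^ k) * σ'⁻¹) := by
  set R : Perm (Fin (p ^ k)) := finRotate (p ^ k) with hR
  let o : ∀ i, i < p ^ k → Fin (p ^ k) := fun i h => ⟨i, h⟩
  let s : Perm (Fin (p ^ k)) := swap (o 0 (by omega)) (o 1 (by omega))
  let t : Perm (Fin (p ^ k)) := swap (o 2 (by omega)) (o 3 (by omega))
  have hs1 : Perm.sign s = -1 := Perm.sign_swap (by simp [o])
  have ht1 : Perm.sign t = -1 := Perm.sign_swap (by simp [o])
  have hsval : ∀ x : Fin (p ^ k),
      (s x).val = if x.val = 0 then 1 else if x.val = 1 then 0 else x.val := fun x => by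
    simp only [s, swap_apply_def, o, Fin.ext_iff]
    split_ifs <;> simp_all
  have htval : ∀ x : Fin (p ^ k),
      (t x).val = if x.val = 2 then 3 else if x.val = 3 then 2 else x.val := fun x => by
    simp only [t, swap_apply_def, o, Fin.ext_iff]
    split_ifs <;> simp_all
  have hRval : ∀ x : Fin (p ^ k),
      (R x).val = if x.val + 1 = p ^ k then 0 else x.val + 1 := fun x => by
    rw [hR, rot_val]
    split_ifs with h
    · rw [h, Nat.mod_self]
    · exact Nat.mod_eq_of_lt (by omega)
  have hR1 : R ^ (p ^ k) = 1 := by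
    have hpow : ∀ (j : ℕ) (x : Fin (p ^ k)), ((R ^ j) x).val = (x.val + j) % p ^ k := fun j => by
      induction j with
      | zero => intro x; simp [Nat.mod_eq_of_lt x.isLt]
      | succ j ih =>
        intro x
        rw [pow_succ', Perm.mul_apply, hR, rot_val, ← hR, ih, Nat.mod_add_mod, Nat.add_assoc]
    exact Equiv.ext fun x => Fin.ext (by simp [hpow, Nat.mod_eq_of_lt x.isLt])
  have hVp : ∀ π : Perm (Fin (p ^ k)), ∃ e, (π * R * π⁻¹) ^ (p ^ e) = 1 :=
    fun π => ⟨k, by rw [conj_pow, hR1]; group⟩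
  have hmod : ∀ i, 1 ≤ i → i < k → 3 ≤ p ^ i ∧ 3 * p ^ i ≤ p ^ k := fun i h1 h2 => by
    refine ⟨hp3.trans (Nat.le_self_pow (by omega) p), ?_⟩
    calc 3 * p ^ i ≤ p * p ^ i := Nat.mul_le_mul_right _ hp3
      _ = p ^ (i + 1) := (pow_succ' p i).symm
      _ ≤ p ^ k := Nat.pow_le_pow_right hp.pos (by omega)
  have hzero : ∀ i, 1 ≤ i → i < k → ∀ j, j = 0 ∨ j = p ^ i → j % p ^ i = 0 := by
    rintro i - - j (rfl | rfl)
    · simp
    · simp
  have hprim : ∀ π : Perm (Fin (p ^ k)),
      ((π * R * π⁻¹) (o 1 (by omega))).val = 0 →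
      (∀ x : Fin (p ^ k), 4 ≤ x.val → x.val + 1 < p ^ k →
        ((π * R * π⁻¹) x).val = x.val + 1) →
      ∀ i, 1 ≤ i → i < k → ∃ x y : Fin (p ^ k),
        x.val % p ^ i = y.val % p ^ i ∧
          ((π * R * π⁻¹) x).val % p ^ i ≠ ((π * R * π⁻¹) y).val % p ^ i := by
    intro π h1 hgen i hi hik
    obtain ⟨hq, hqa⟩ := hmod i hi hik
    refine ⟨o 1 (by omega), o (p ^ i + 1) (by omega), by simp [o], ?_⟩
    rw [h1, hgen _ (by show 4 ≤ p ^ i + 1; omega) (by show p ^ i + 1 + 1 < p ^ k; omega)]
    show 0 % p ^ i ≠ (p ^ i + 1 + 1) % p ^ i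
    rw [Nat.zero_mod, add_assoc, Nat.add_mod_left, Nat.mod_eq_of_lt (by omega)]
    omega
  have hsi : s⁻¹ = s := swap_inv _ _
  have hti : t⁻¹ = t := swap_inv _ _
  have hsti : (s * t)⁻¹ = t * s := by rw [_root_.mul_inv_rev, hti, hsi]
  have hs_eq : ∀ (y : Fin (p ^ k)), ((y.val = 0 → (s y).val = 1) ∧ (y.val = 1 → (s y).val = 0) ∧
      (2 ≤ y.val → (s y).val = y.val)) := fun y => by
    rw [hsval]; refine ⟨fun h => ?_, fun h => ?_, fun h => ?_⟩ <;> split_ifs <;> omega
  have ht_eq : ∀ (y : Fin (p ^ k)), ((y.val = 2 → (t y).val = 3) ∧ (y.val = 3 → (t y).val = 2) ∧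
      (y.val < 2 ∨ 4 ≤ y.val → (t y).val = y.val)) := fun y => by
    rw [htval]; refine ⟨fun h => ?_, fun h => ?_, fun h => ?_⟩ <;> split_ifs <;> omega
  have hR_eq : ∀ (y : Fin (p ^ k)), ((y.val + 1 = p ^ k → (R y).val = 0) ∧
      (y.val + 1 < p ^ k → (R y).val = y.val + 1)) := fun y => by
    rw [hRval]; refine ⟨fun h => ?_, fun h => ?_⟩ <;> split_ifs <;> omega
  have hs1V : ∀ x : Fin (p ^ k), ((s * R * s⁻¹) x).val =
      if x.val = 0 then 2 else if x.val = 1 then 0 else if x.val + 1 = p ^ k then 1 else x.val + 1 := by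
    intro x
    rw [hsi, Perm.mul_apply, Perm.mul_apply]
    have h1 := hs_eq x
    have h2 := hR_eq (s x)
    have h3 := hs_eq (R (s x))
    have := x.isLt
    split_ifs <;> omega
  have hs2V : ∀ x : Fin (p ^ k), ((s * t * R * (s * t)⁻¹) x).val =
      if x.val = 0 then 3 else if x.val = 1 then 0 else if x.val = 2 then 4 else
        if x.val = 3 then 2 else if x.val + 1 = p ^ k then 1 else x.val + 1 := by
    intro x
    rw [hsti, Perm.mul_apply, Perm.mul_apply, Perm.mul_apply, Perm.mul_apply]
    have h1 := hs_eq x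
    have h2 := ht_eq (s x)
    have h3 := hR_eq (t (s x))
    have h4 := ht_eq (R (t (s x)))
    have h5 := hs_eq (t (R (t (s x))))
    have := x.isLt
    split_ifs <;> omega
  refine ⟨s, s * t, by rw [map_mul, hs1, ht1]; decide, ?_, ?_⟩
  · refine goodPair_cycle hp hp3 hk _ (hVp s) (hprim s ?_ ?_) ?_
    · rw [hs1V]; rfl
    · intro x hx hx'
      rw [hs1V, if_neg (by omega), if_neg (by omega), if_neg (by omega)]
    · have hset : (Finset.univ.filter (fun x => (R * (s * R * s⁻¹)) x = x)) = {o 1 (by omega)} := by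
        ext x
        simp only [Finset.mem_filter, Finset.mem_univ, true_and, Finset.mem_singleton,
          Perm.mul_apply, Fin.ext_iff, o]
        have h1 := hs1V x
        rw [Perm.mul_apply, Perm.mul_apply] at h1
        have h2 := hR_eq (s (R (s⁻¹ x)))
        have := x.isLt
        split_ifs at h1 <;> omega
      rw [hset, Finset.card_singleton, Nat.dvd_one]
      omega
  · refine goodPair_cycle hp hp3 hk _ (hVp _) (hprim _ ?_ ?_) ?_
    · rw [hs2V]; rfl
    · intro x hx hx'
      rw [hs2V, if_neg (by omega), if_neg (by omega), if_neg (by omega), if_neg (by omega),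
        if_neg (by omega)]
    · have hset : (Finset.univ.filter (fun x => (R * (s * t * R * (s * t)⁻¹)) x = x)) =
          {o 1 (by omega), o 3 (by omega)} := by
        ext x
        simp only [Finset.mem_filter, Finset.mem_univ, true_and, Finset.mem_insert,
          Finset.mem_singleton, Perm.mul_apply, Fin.ext_iff, o]
        have h1 := hs2V x
        simp only [Perm.mul_apply] at h1
        have h2 := hR_eq (s (t (R ((s * t)⁻¹ x))))
        have := x.isLt
        split_ifs at h1 <;> omega
      rw [hset, Finset.card_pair (by simp [o]), Nat.prime_dvd_prime_iff_eq hp Nat.prime_two]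
      omega

/-- Divisibility data of a tiling by `p`-powers, longest first. -/
structure Shape (p a : ℕ) (b : ℕ → ℕ) : Prop where
  pow : ∀ x < a, ∃ i, b x = p ^ i
  seg : ∀ x < a, x / b x * b x + b x ≤ a
  const : ∀ x < a, ∀ i < b x, b (x / b x * b x + i) = b x
  anti : ∀ x y, x ≤ y → y < a → b y ≤ b x

namespace Shape

variable {p a : ℕ} {b : ℕ → ℕ}

theorem pos (h : Shape p a b) (hp : p.Prime) {x : ℕ} (hx : x < a) : 0 < b x := by
  obtain ⟨i, hi⟩ := h.pow x hx
  rw [hi]; exact pow_pos hp.pos i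

theorem dvd_of_le (h : Shape p a b) (hp : p.Prime) {x y : ℕ} (hxy : x ≤ y) (hy : y < a) :
    b y ∣ b x := by
  obtain ⟨i, hi⟩ := h.pow y hy
  obtain ⟨j, hj⟩ := h.pow x (by omega)
  rw [hi, hj]
  exact pow_dvd_pow p ((Nat.pow_le_pow_iff_right hp.one_lt).1 (hi ▸ hj ▸ h.anti x y hxy hy))

theorem odd (h : Shape p a b) (hp : p.Prime) (hp3 : 3 ≤ p) {x : ℕ} (hx : x < a) : Odd (b x) := by
  obtain ⟨i, hi⟩ := h.pow x hx
  rw [hi]
  exact (hp.odd_of_ne_two (by omega)).pow

end Shape

/-- The number of non-starts. -/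
def nonStarts (a : ℕ) (b : ℕ → ℕ) : Finset (Fin a) :=
  Finset.univ.filter (fun x => x.val % b x.val ≠ 0)

/-- A tiled permutation is good against the full cycle, after reversing all but chosen segments. -/
theorem goodPair_reversed {p k a : ℕ} (ha : a = p ^ k) (hp : p.Prime) (hp3 : 3 ≤ p) (hk : 1 ≤ k)
    {b : ℕ → ℕ} (hb : Shape p a b) (hblt : ∀ x < a, b x < a)
    (W : Perm (Fin a))
    (hW : ∀ x : Fin a, (W x).val = x.val / b x * b x + (x.val % b x + 1) % b x)
    (hWp : ∃ e, W ^ (p ^ e) = 1) (fwd : ℕ → Prop) [DecidablePred fwd]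
    (hfwd : ∀ x < a, (fwd x ↔ fwd (x / b x * b x)) ∧ (fwd x → 3 ≤ b x))
    (hcount : ¬ p ∣ (Finset.univ.filter
      (fun x : Fin a => x.val % b x.val ≠ 0 ∧ ¬ fwd x.val)).card)
    (hprim : ∀ i, 1 ≤ i → i < k → ∃ (x y : ℕ) (X Y : ℕ), x < a ∧ y < a ∧
      x % p ^ i = y % p ^ i ∧ X % p ^ i ≠ Y % p ^ i ∧
      ((b x = 1 ∧ X = x) ∨ (fwd x ∧ x % b x + 1 < b x ∧ X = x + 1) ∨
        (¬ fwd x ∧ x % b x ≠ 0 ∧ X + 1 = x)) ∧
      ((b y = 1 ∧ Y = y) ∨ (fwd y ∧ y % b y + 1 < b y ∧ Y = y + 1) ∨
        (¬ fwd y ∧ y % b y ≠ 0 ∧ Y + 1 = y))) :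
    ∃ π : Perm (Fin a), GoodPair p (finRotate a) (π * W * π⁻¹) := by
  subst ha
  have hfl : ∀ x : Fin (p ^ k),
      (if fwd x.val then x.val else x.val / b x * b x + (b x - x.val % b x) % b x) < p ^ k :=
    fun x => by
      have := hb.seg x x.isLt
      have := Nat.mod_lt (b x.val - x.val % b x.val) (hb.pos hp x.isLt)
      split_ifs <;> omega
  let φ : Fin (p ^ k) → Fin (p ^ k) := fun x => ⟨_, hfl x⟩
  have hloc : ∀ x < p ^ k, ∀ i < b x, (x / b x * b x + i) % b x = i ∧
      (x / b x * b x + i) / b x * b x = x / b x * b x ∧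
      (fwd (x / b x * b x + i) ↔ fwd x) := fun x hx i hi => by
    have hpos := hb.pos hp hx
    have h1 : (x / b x * b x + i) % b x = i := by
      rw [mul_comm, Nat.mul_add_mod, Nat.mod_eq_of_lt hi]
    have h2 : (x / b x * b x + i) / b x * b x = x / b x * b x := by
      rw [mul_comm (x / b x) (b x), Nat.mul_add_div hpos, Nat.div_eq_of_lt hi, add_zero, mul_comm]
    refine ⟨h1, h2, ?_⟩
    have hc := hb.const x hx i hi
    have hlt : x / b x * b x + i < p ^ k := by have := hb.seg x hx; omega
    have e1 := (hfwd _ hlt).1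
    rw [hc, h2] at e1
    exact e1.trans (hfwd x hx).1.symm
  have hφval : ∀ x : Fin (p ^ k), (φ x).val =
      if fwd x.val then x.val else x.val / b x * b x + (b x - x.val % b x) % b x := fun x => rfl
  have hφrev : ∀ (x : Fin (p ^ k)) (i : ℕ), i < b x → ∀ y : Fin (p ^ k),
      y.val = x.val / b x * b x + i → (φ y).val =
        if fwd x.val then y.val else x.val / b x * b x + (b x - i) % b x := fun x i hi y hy => by
    obtain ⟨h1, h2, h3⟩ := hloc x x.isLt i hi
    rw [hφval, hy, hb.const x x.isLt i hi, h1, h2]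
    by_cases hf : fwd x.val
    · rw [if_pos hf, if_pos (h3.2 hf)]
    · rw [if_neg hf, if_neg (fun h => hf (h3.1 h))]
  have hinv : Function.Involutive φ := fun x => Fin.ext <| by
    have hpos := hb.pos hp x.isLt
    have hr := Nat.mod_lt x.val hpos
    by_cases hf : fwd x.val
    · have : φ x = x := Fin.ext (by rw [hφval, if_pos hf])
      rw [this, this]
    · rw [hφrev x _ (Nat.mod_lt (b x.val - x.val % b x.val) hpos) (φ x)
        (by rw [hφval, if_neg hf]), if_neg hf]
      conv_rhs => rw [← Nat.div_add_mod x.val (b x.val), mul_comm]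
      congr 1
      rcases Nat.eq_zero_or_pos (x.val % b x.val) with h0 | h0
      · rw [h0]; simp
      · rw [Nat.mod_eq_of_lt (show b x.val - x.val % b x.val < b x.val by omega),
          Nat.mod_eq_of_lt (show b x.val - (b x.val - x.val % b x.val) < b x.val by omega)]
        omega
  let π := hinv.toPerm φ
  refine ⟨π, ?_⟩
  set V := π * W * π⁻¹ with hVdef
  have hπi : ∀ x, π⁻¹ x = φ x := fun x => rfl
  have hV : ∀ x : Fin (p ^ k), (V x).val =
      if fwd x.val then x.val / b x * b x + (x.val % b x + 1) % b x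
      else x.val / b x * b x + (x.val % b x + (b x - 1)) % b x := fun x => by
    have hpos := hb.pos hp x.isLt
    have hr := Nat.mod_lt x.val hpos
    rw [hVdef, Perm.mul_apply, Perm.mul_apply, hπi]
    show (φ (W (φ x))).val = _
    by_cases hf : fwd x.val
    · rw [if_pos hf, hφrev x _ (Nat.mod_lt (x.val % b x.val + 1) hpos) (W (φ x)) ?_, if_pos hf]
      · rw [show φ x = x from Fin.ext (by rw [hφval, if_pos hf]), hW]
      · rw [show φ x = x from Fin.ext (by rw [hφval, if_pos hf]), hW]
    · rw [if_neg hf]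
      obtain ⟨h1, h2, -⟩ := hloc x x.isLt _ (Nat.mod_lt (b x.val - x.val % b x.val) hpos)
      rw [hφrev x _ (Nat.mod_lt ((b x.val - x.val % b x.val) % b x.val + 1) hpos) (W (φ x)) ?_,
        if_neg hf]
      · congr 1
        rcases Nat.eq_zero_or_pos (x.val % b x.val) with h0 | h0
        · rw [h0, Nat.sub_zero, Nat.mod_self, zero_add, zero_add]
          rcases Nat.lt_or_ge 1 (b x.val) with hb1 | hb1
          · rw [Nat.mod_eq_of_lt hb1]
          · rw [show b x.val = 1 by omega]
        · rw [Nat.mod_eq_of_lt (show b x.val - x.val % b x.val < b x.val by omega)]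
          rcases Nat.lt_or_ge (b x.val - x.val % b x.val + 1) (b x.val) with hlt | hge
          · rw [Nat.mod_eq_of_lt hlt, Nat.mod_eq_of_lt
                (show b x.val - (b x.val - x.val % b x.val + 1) < b x.val by omega),
              Nat.mod_eq_sub_mod (show b x.val ≤ x.val % b x.val + (b x.val - 1) by omega),
              Nat.mod_eq_of_lt
                (show x.val % b x.val + (b x.val - 1) - b x.val < b x.val by omega)]
            omega
          · rw [show b x.val - x.val % b x.val + 1 = b x.val by omega, Nat.mod_self, Nat.sub_zero,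
              Nat.mod_self, show x.val % b x.val + (b x.val - 1) = b x.val by omega, Nat.mod_self]
      · rw [hW, hφval, if_neg hf, hb.const x x.isLt _ (Nat.mod_lt _ hpos), h1, h2]
  have hVloc : ∀ (x : Fin (p ^ k)) (X : ℕ),
      ((b x = 1 ∧ X = x.val) ∨ (fwd x.val ∧ x.val % b x + 1 < b x ∧ X = x.val + 1) ∨
        (¬ fwd x.val ∧ x.val % b x ≠ 0 ∧ X + 1 = x.val)) → (V x).val = X := by
    intro x X h
    have hd := Nat.div_add_mod x.val (b x.val)
    rw [mul_comm] at hd
    have hr := Nat.mod_lt x.val (hb.pos hp x.isLt)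
    rw [hV]
    rcases h with ⟨h1, rfl⟩ | ⟨hf, h1, rfl⟩ | ⟨hf, h1, h2⟩
    · rw [h1]; simp [Nat.mod_one]
    · rw [if_pos hf, Nat.mod_eq_of_lt h1]; omega
    · rw [if_neg hf, Nat.mod_eq_sub_mod (by omega), Nat.mod_eq_of_lt (by omega)]; omega
  refine goodPair_cycle hp hp3 hk V ?_ ?_ ?_
  · obtain ⟨e, he⟩ := hWp
    exact ⟨e, by rw [hVdef, conj_pow, he]; group⟩
  · intro i hi hik
    obtain ⟨x, y, X, Y, hx, hy, hxy, hXY, hX, hY⟩ := hprim i hi hik
    refine ⟨⟨x, hx⟩, ⟨y, hy⟩, hxy, ?_⟩
    rw [hVloc ⟨x, hx⟩ X hX, hVloc ⟨y, hy⟩ Y hY]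
    exact hXY
  · suffices heq : (Finset.univ.filter (fun x => (finRotate (p ^ k) * V) x = x)) =
        Finset.univ.filter (fun x : Fin (p ^ k) => x.val % b x.val ≠ 0 ∧ ¬ fwd x.val) by
      rw [heq]; exact hcount
    ext x
    simp only [Finset.mem_filter, Finset.mem_univ, true_and, Perm.mul_apply, Fin.ext_iff]
    rw [rot_val, hV]
    have hd := Nat.div_add_mod x.val (b x.val)
    rw [mul_comm] at hd
    have hpos := hb.pos hp x.isLt
    have hr := Nat.mod_lt x.val hpos
    have hseg := hb.seg x x.isLt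
    have hxl := x.isLt
    have hbl := hblt x hxl
    obtain ⟨d, hd2⟩ := hb.odd hp hp3 hxl
    by_cases hf : fwd x.val
    · have h3 := (hfwd x hxl).2 hf
      rw [if_pos hf]
      refine ⟨fun h => ?_, fun h => absurd hf h.2⟩
      exfalso
      rcases Nat.lt_or_ge (x.val % b x.val + 1) (b x.val) with hlt | hge
      · rw [Nat.mod_eq_of_lt hlt] at h
        rcases Nat.lt_or_ge (x.val / b x * b x + (x.val % b x + 1) + 1) (p ^ k) with h' | h'
        · rw [Nat.mod_eq_of_lt h'] at h; omega
        · rw [Nat.mod_eq_sub_mod h', Nat.mod_eq_of_lt (by omega)] at h; omega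
      · rw [show x.val % b x.val + 1 = b x.val by omega, Nat.mod_self,
          Nat.mod_eq_of_lt (show x.val / b x * b x + 0 + 1 < p ^ k by omega)] at h
        omega
    · rw [if_neg hf]
      rcases Nat.eq_zero_or_pos (x.val % b x.val) with h0 | h0
      · refine ⟨fun h => ?_, fun h => absurd h0 h.1⟩
        exfalso
        rw [h0, zero_add, Nat.mod_eq_of_lt (show b x.val - 1 < b x.val by omega)] at h
        rcases Nat.lt_or_ge (x.val / b x * b x + (b x - 1) + 1) (p ^ k) with h' | h'
        · rw [Nat.mod_eq_of_lt h'] at h; omega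
        · rw [Nat.mod_eq_sub_mod h', Nat.mod_eq_of_lt (by omega)] at h
          omega
      · refine ⟨fun _ => ⟨by omega, hf⟩, fun _ => ?_⟩
        rw [Nat.mod_eq_sub_mod (show b x.val ≤ x.val % b x.val + (b x.val - 1) by omega),
          Nat.mod_eq_of_lt (show x.val % b x.val + (b x.val - 1) - b x.val < b x.val by omega),
          Nat.mod_eq_of_lt (by omega)]
        omega

theorem dvd_sub_one_mul {p e : ℕ} (he : p ∣ e) {N R : ℕ} (h : R + (e - 1) = N) (he0 : 0 < e) :
    (p ∣ R ↔ p ∣ N + 1) := by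
  rw [show N + 1 = R + e by omega]
  exact (Nat.dvd_add_left he).symm

/-- The number of non-starts in a run of `f` segments of length `e`. -/
theorem card_run {a e F f : ℕ} {b : ℕ → ℕ} (he : 0 < e) (hF : e ∣ F) (hle : F + f * e ≤ a)
    (hb : ∀ x, F ≤ x → x < F + f * e → b x = e) :
    (Finset.univ.filter
      (fun x : Fin a => x.val % b x.val ≠ 0 ∧ (F ≤ x.val ∧ x.val < F + f * e))).card =
      f * (e - 1) := by
  have key : (Finset.univ.filter
      (fun x : Fin a => x.val % b x.val ≠ 0 ∧ (F ≤ x.val ∧ x.val < F + f * e))).card =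
      ((Finset.range f ×ˢ Finset.Ico 1 e)).card := by
    refine Finset.card_bij' (fun x _ => ((x.val - F) / e, (x.val - F) % e))
      (fun q hq => ⟨F + q.1 * e + q.2, ?_⟩) ?_ ?_ ?_ ?_
    · simp only [Finset.mem_product, Finset.mem_range, Finset.mem_Ico] at hq
      have : (q.1 + 1) * e ≤ f * e := Nat.mul_le_mul_right e hq.1
      rw [add_one_mul] at this
      omega
    · intro x hx
      simp only [Finset.mem_filter, Finset.mem_univ, true_and] at hx
      obtain ⟨h1, h2, h3⟩ := hx
      rw [hb _ h2 h3] at h1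
      simp only [Finset.mem_product, Finset.mem_range, Finset.mem_Ico]
      refine ⟨Nat.div_lt_of_lt_mul (by rw [mul_comm]; omega), ?_, Nat.mod_lt _ he⟩
      obtain ⟨t, rfl⟩ := hF
      rw [Nat.one_le_iff_ne_zero]
      intro h0
      apply h1
      rw [show x.val = (x.val - e * t) + e * t by omega, Nat.add_mul_mod_self_left]
      exact h0
    · intro q hq
      simp only [Finset.mem_product, Finset.mem_range, Finset.mem_Ico] at hq
      have : (q.1 + 1) * e ≤ f * e := Nat.mul_le_mul_right e hq.1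
      rw [add_one_mul] at this
      simp only [Finset.mem_filter, Finset.mem_univ, true_and]
      refine ⟨?_, by omega, by omega⟩
      rw [hb _ (by omega) (by omega)]
      obtain ⟨t, rfl⟩ := hF
      rw [mul_comm q.1, ← mul_add, Nat.mul_add_mod, Nat.mod_eq_of_lt hq.2.2]
      omega
    · intro x hx
      simp only [Finset.mem_filter, Finset.mem_univ, true_and] at hx
      apply Fin.ext
      show F + (x.val - F) / e * e + (x.val - F) % e = x.val
      have := Nat.div_add_mod (x.val - F) e
      rw [mul_comm] at this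
      omega
    · intro q hq
      simp only [Finset.mem_product, Finset.mem_range, Finset.mem_Ico] at hq
      show ((F + q.1 * e + q.2 - F) / e, (F + q.1 * e + q.2 - F) % e) = q
      rw [add_assoc, Nat.add_sub_cancel_left, mul_comm, Nat.mul_add_div he,
        Nat.div_eq_of_lt hq.2.2, Nat.mul_add_mod, Nat.mod_eq_of_lt hq.2.2, add_zero]
  rw [key, Finset.card_product, Finset.card_range, Nat.card_Ico]

/-- A tiling by orbits shorter than `p^k` admits a good conjugate, and has two last equal orbits. -/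
theorem goodPair_tiling {p k a : ℕ} (ha : a = p ^ k) (hp : p.Prime) (hp3 : 3 ≤ p) {b : ℕ → ℕ}
    (hb : Shape p a b) (hblt : ∀ x < a, b x < a) (hb0 : 1 < b 0) (ha0 : 0 < a)
    (W : Perm (Fin a))
    (hW : ∀ x : Fin a, (W x).val = x.val / b x * b x + (x.val % b x + 1) % b x)
    (hWp : ∃ e, W ^ (p ^ e) = 1) :
    (∃ π : Perm (Fin a), GoodPair p (finRotate a) (π * W * π⁻¹)) ∧
      ∃ c, Odd c ∧ 2 * c ≤ a ∧ c ∣ a ∧ ∀ x, a - 2 * c ≤ x → x < a → b x = c := by
  classical
  have hk0 : 0 < k := by
    rcases Nat.eq_zero_or_pos k with rfl | h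
    · rw [pow_zero] at ha
      exact absurd (hblt 0 ha0) (by omega)
    · exact h
  have ha3 : 3 ≤ a := ha ▸ hp3.trans (Nat.le_self_pow (by omega) p)
  have hpa : p ∣ a := ha ▸ dvd_pow_self p (by omega)
  have hbig : ∀ x < a, 1 < b x → p ∣ b x ∧ 3 ≤ b x := fun x hx h1 => by
    obtain ⟨i, hi⟩ := hb.pow x hx
    rcases Nat.eq_zero_or_pos i with rfl | hi0
    · rw [hi, pow_zero] at h1; omega
    · exact ⟨hi ▸ dvd_pow_self p (by omega), hi ▸ hp3.trans (Nat.le_self_pow (by omega) p)⟩
  have hthird : ∀ i, i < k → 3 * p ^ i ≤ a := fun i hi => by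
    calc 3 * p ^ i ≤ p * p ^ i := Nat.mul_le_mul_right _ hp3
      _ = p ^ (i + 1) := (pow_succ' p i).symm
      _ ≤ a := ha ▸ Nat.pow_le_pow_right hp.pos (by omega)
  have hpow : ∀ x < a, ∃ i, i < k ∧ b x = p ^ i := fun x hx => by
    obtain ⟨i, hi⟩ := hb.pow x hx
    refine ⟨i, ?_, hi⟩
    have := hblt x hx
    rw [hi, ha] at this
    exact (Nat.pow_lt_pow_iff_right hp.one_lt).1 this
  have hdvda : ∀ x < a, b x ∣ a := fun x hx => by
    obtain ⟨i, hi, he⟩ := hpow x hx
    rw [he, ha]; exact pow_dvd_pow p hi.le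
  have hmul : ∀ x < a, ∀ S, S ≤ x → b x ∣ S → S ≤ x / b x * b x := fun x hx S hS hd => by
    obtain ⟨t, rfl⟩ := hd
    rw [mul_comm]
    exact Nat.mul_le_mul_right _ ((Nat.le_div_iff_mul_le (hb.pos hp hx)).2 (by rw [mul_comm]; exact hS))
  set c := b (a - 1) with hc
  have hca : c ∣ a := hdvda (a - 1) (by omega)
  obtain ⟨ic, hick, hcpow⟩ := hpow (a - 1) (by omega)
  have hc3 : 3 * c ≤ a := by rw [hc, hcpow]; exact hthird ic hick
  have hcpos : 0 < c := hb.pos hp (by omega)
  have hlastc : ∀ x, a - 2 * c ≤ x → x < a → b x = c := by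
    -- the last two segments have the same length
    have hseg1 : ∀ x, a - c ≤ x → x < a → b x = c := fun x h1 h2 => by
      have hd : (a - 1) / c * c = a - c := by
        obtain ⟨t, ht⟩ := hca
        have ht1 : 1 ≤ t := by
          rcases t with _ | t
          · rw [mul_zero] at ht; omega
          · omega
        have : (a - 1) / c = t - 1 := by
          refine Nat.div_eq_of_lt_le ?_ ?_
          · rw [ht, Nat.sub_one_mul, mul_comm t c]; omega
          · rw [Nat.sub_add_cancel ht1, mul_comm, ← ht]; omega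
        rw [this, Nat.sub_one_mul, mul_comm, ← ht]
      have := hb.const (a - 1) (by omega) (x - (a - c)) (by rw [← hc]; omega)
      rwa [← hc, hd, show a - c + (x - (a - c)) = x by omega] at this
    intro x h1 h2
    by_cases hx : a - c ≤ x
    · exact hseg1 x hx h2
    obtain ⟨iy, hiy, hy⟩ := hpow (a - c - 1) (by omega)
    have hcy : c ≤ b (a - c - 1) := hb.anti _ _ (by omega) (by omega)
    have heq : b (a - c - 1) = c := by
      by_contra hne
      have hseg := hb.seg (a - c - 1) (by omega)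
      set d := b (a - c - 1) with hd
      have hdd : c ∣ d := hb.dvd_of_le hp (by omega) (by omega)
      set s := (a - c - 1) / d * d with hs
      have hsd : d ∣ s := dvd_mul_left _ _
      have hlt := Nat.div_add_mod (a - c - 1) d
      have hml := Nat.mod_lt (a - c - 1) (hb.pos hp (show a - c - 1 < a by omega))
      rw [mul_comm, ← hs] at hlt
      rw [← hd] at hml
      have hsd' : s + d ≤ a - c := by
        by_contra hgt
        have h3 := hb.const (a - c - 1) (by omega) (a - c - s) (by rw [← hd]; omega)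
        rw [← hd, ← hs, show s + (a - c - s) = a - c by omega, hseg1 _ le_rfl (by omega)] at h3
        exact hne h3.symm
      have hd_dvd : d ∣ a - c := ⟨(a - c) / d, by
        rw [mul_comm]; exact (Nat.div_mul_cancel (show d ∣ a - c by
          rw [show a - c = s + d by omega]; exact Nat.dvd_add hsd dvd_rfl)).symm⟩
      have hda : d ∣ a := hdvda _ (by omega)
      have : d ∣ c := by
        have := Nat.dvd_sub hda hd_dvd
        rwa [show a - (a - c) = c by omega] at this
      exact hne (Nat.dvd_antisymm this hdd)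
    have hd' : (a - c - 1) / c * c = a - 2 * c := by
      obtain ⟨t, ht⟩ := hca
      have : (a - c - 1) / c = t - 2 := by
        rw [ht]
        refine Nat.div_eq_of_lt_le ?_ ?_
        · rw [Nat.sub_mul, mul_comm t c]; omega
        · rw [add_one_mul, Nat.sub_mul, mul_comm t c]; omega
      rw [this, Nat.sub_mul, mul_comm t c, ← ht]
    have := hb.const (a - c - 1) (by omega) (x - (a - 2 * c)) (by rw [heq]; omega)
    rwa [heq, hd', show a - 2 * c + (x - (a - 2 * c)) = x by omega] at this
  refine ⟨?_, c, hb.odd hp hp3 (by omega), by omega, hca, hlastc⟩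
  have hq : ∀ i, 1 ≤ i → i < k → 3 ≤ p ^ i ∧ 3 * p ^ i ≤ a ∧ p ^ i ∣ a := fun i h1 h2 =>
    ⟨hp3.trans (Nat.le_self_pow (by omega) p), hthird i h2, ha ▸ pow_dvd_pow p h2.le⟩
  have h0start : 1 % b 0 ≠ 0 := by rw [Nat.mod_eq_of_lt hb0]; omega
  have hb1 : b 1 = b 0 := by
    have := hb.const 0 (by omega) 1 hb0
    simpa using this
  by_cases hc1 : c = 1
  · -- a tail of fixed points
    have hex : ∃ T, T < a ∧ b T = 1 := ⟨a - 1, by omega, hc ▸ hc1⟩
    set T := Nat.find hex with hT
    obtain ⟨hTa, hbT⟩ : T < a ∧ b T = 1 := Nat.find_spec hex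
    have hT0 : 0 < T := by
      rcases Nat.eq_zero_or_pos T with h | h
      · rw [h] at hbT; omega
      · exact h
    have htail : ∀ x, T ≤ x → x < a → b x = 1 := fun x h1 h2 =>
      le_antisymm (hbT ▸ hb.anti T x h1 h2) (hb.pos hp h2)
    have hlong : ∀ x < T, 1 < b x := fun x hx => by
      have h := hb.pos hp (show x < a by omega)
      by_contra hle
      exact absurd ⟨by omega, by omega⟩ (Nat.find_min hex hx)
    set e := b (T - 1) with he
    have he3 : p ∣ e ∧ 3 ≤ e := hbig _ (by omega) (hlong _ (by omega))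
    have hlast : (T - 1) / e * e + e = T ∧ ∀ x, (T - 1) / e * e ≤ x → x < T → b x = e := by
      have hd := Nat.div_add_mod (T - 1) e
      have hm := Nat.mod_lt (T - 1) (show 0 < e by omega)
      rw [mul_comm] at hd
      have hconst : ∀ x, (T - 1) / e * e ≤ x → x < (T - 1) / e * e + e → b x = e := fun x h1 h2 => by
        have := hb.const (T - 1) (by omega) (x - (T - 1) / e * e) (by rw [← he]; omega)
        rwa [← he, show (T - 1) / e * e + (x - (T - 1) / e * e) = x by omega] at this
      have hle : (T - 1) / e * e + e ≤ T := by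
        by_contra hgt
        have := hconst T (by omega) (by omega)
        omega
      exact ⟨by omega, fun x h1 h2 => hconst x h1 (by omega)⟩
    obtain ⟨hFe, hFb⟩ := hlast
    set F := (T - 1) / e * e with hF
    by_cases hN : p ∣ (nonStarts a b).card
    · -- one forward segment
      let fwd : ℕ → Prop := fun x => F ≤ x ∧ x < T
      have hfwd : ∀ x < a, (fwd x ↔ fwd (x / b x * b x)) ∧ (fwd x → 3 ≤ b x) := by
        intro x hx
        refine ⟨?_, fun h => by rw [hFb x h.1 h.2]; exact he3.2⟩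
        have hd := Nat.div_add_mod x (b x)
        have hpos := hb.pos hp hx
        have hm := Nat.mod_lt x hpos
        rw [mul_comm] at hd
        constructor
        · intro h
          refine ⟨hmul x hx F h.1 ?_, by have := h.2; omega⟩
          rw [hFb x h.1 h.2]; exact dvd_mul_left _ _
        · intro h
          have h1 := hFb _ h.1 h.2
          have hbx : b (x / b x * b x) = b x := by simpa using hb.const x hx 0 hpos
          rw [hbx] at h1
          refine ⟨by have := h.1; omega, ?_⟩
          by_contra hge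
          rw [htail x (by omega) hx] at h1
          omega
      have hcount : ¬ p ∣ (Finset.univ.filter
          (fun x : Fin a => x.val % b x.val ≠ 0 ∧ ¬ fwd x.val)).card := by
        have hsplit : (Finset.univ.filter
            (fun x : Fin a => x.val % b x.val ≠ 0 ∧ ¬ fwd x.val)).card + 1 * (e - 1) =
            (nonStarts a b).card := by
          rw [← card_run (a := a) (b := b) (f := 1) (show 0 < e by omega)
            (show e ∣ F from dvd_mul_left _ _) (by omega)
            (fun x h1 h2 => hFb x h1 (by omega)), one_mul, hFe, nonStarts,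
            ← Finset.card_union_of_disjoint]
          · congr 1; ext x; simp [fwd]; by_cases h : x.val % b x.val = 0 <;> simp [h] <;> omega
          · rw [Finset.disjoint_filter]; intro x _ h1 h2; exact h1.2 h2.2
        intro h
        rw [one_mul] at hsplit
        rw [dvd_sub_one_mul he3.1 hsplit (by omega)] at h
        have := Nat.dvd_sub h hN
        rw [Nat.add_sub_cancel_left, Nat.dvd_one] at this
        omega
      refine goodPair_reversed ha hp hp3 hk0 hb hblt W hW hWp fwd hfwd hcount ?_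
      intro i hi hik
      obtain ⟨hq3, hqa, hqd⟩ := hq i hi hik
      set q := p ^ i with hqdef
      obtain ⟨m, hm⟩ := hqd
      by_cases hsmall : q - 1 < F
      · have hbq : 1 < b (q - 1) := hlong _ (by omega)
        obtain ⟨hpb, -⟩ := hbig _ (by omega) hbq
        refine ⟨a - 1, q - 1, a - 1, q - 2, by omega, by omega, ?_, ?_, Or.inl ⟨hc ▸ hc1, rfl⟩,
          Or.inr (Or.inr ⟨fun h => by have := h.1; omega, ?_, by omega⟩)⟩
        · rw [Nat.mod_eq_of_lt (show q - 1 < q by omega), show a - 1 = q - 1 + q * (m - 1) by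
            rw [Nat.mul_sub_one, ← hm]; omega, Nat.add_mul_mod_self_left,
            Nat.mod_eq_of_lt (show q - 1 < q by omega)]
        · rw [show a - 1 = q - 1 + q * (m - 1) by rw [Nat.mul_sub_one, ← hm]; omega,
            Nat.add_mul_mod_self_left, Nat.mod_eq_of_lt (show q - 1 < q by omega),
            Nat.mod_eq_of_lt (show q - 2 < q by omega)]
          omega
        · intro h0
          have hpq : p ∣ q := hqdef ▸ dvd_pow_self p (by omega)
          have h1 : p ∣ q - 1 := hpb.trans (Nat.dvd_of_mod_eq_zero h0)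
          have := Nat.dvd_sub hpq h1
          rw [show q - (q - 1) = 1 by omega, Nat.dvd_one] at this
          omega
      · have hthe : 3 * e ≤ a := by
          obtain ⟨j, hj, hje⟩ := hpow (T - 1) (by omega)
          rw [he, hje]; exact hthird j hj
        have hbF : b F = e := hFb F le_rfl (by omega)
        have hT' : T + (F + (q * a - T)) % q < a := by
          have := Nat.mod_lt (F + (q * a - T)) (show 0 < q by omega)
          omega
        refine ⟨T + (F + (q * a - T)) % q, F, T + (F + (q * a - T)) % q, F + 1, hT', by omega,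
          ?_, ?_, Or.inl ⟨htail _ (by omega) hT', rfl⟩,
          Or.inr (Or.inl ⟨⟨le_rfl, by omega⟩, ?_, rfl⟩)⟩
        · have : T ≤ q * a := by nlinarith
          rw [Nat.add_mod_mod, show T + (F + (q * a - T)) = F + q * a by omega,
            Nat.add_mul_mod_self_left]
        · have : T ≤ q * a := by nlinarith
          rw [Nat.add_mod_mod, show T + (F + (q * a - T)) = F + q * a by omega,
            Nat.add_mul_mod_self_left]
          intro h
          have h' : F ≡ F + 1 [MOD q] := h
          have := (Nat.modEq_iff_dvd' (Nat.le_succ F)).1 h'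
          rw [Nat.succ_sub (le_refl F), Nat.sub_self, Nat.dvd_one] at this
          omega
        · rw [hbF, Nat.mod_eq_zero_of_dvd (show e ∣ F from dvd_mul_left _ _)]; omega
    · -- all segments reversed
      refine goodPair_reversed ha hp hp3 hk0 hb hblt W hW hWp (fun _ => False)
        (fun x _ => ⟨Iff.rfl, False.elim⟩) (by simpa [nonStarts] using hN) ?_
      intro i hi hik
      obtain ⟨hq3, hqa, hqd⟩ := hq i hi hik
      set q := p ^ i with hqdef
      obtain ⟨m, hm⟩ := hqd
      by_cases hsmall : q - 1 < T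
      · obtain ⟨hpb, -⟩ := hbig _ (show q - 1 < a by omega) (hlong _ hsmall)
        refine ⟨a - 1, q - 1, a - 1, q - 2, by omega, by omega, ?_, ?_, Or.inl ⟨hc ▸ hc1, rfl⟩,
          Or.inr (Or.inr ⟨id, ?_, by omega⟩)⟩
        · rw [Nat.mod_eq_of_lt (show q - 1 < q by omega), show a - 1 = q - 1 + q * (m - 1) by
            rw [Nat.mul_sub_one, ← hm]; omega, Nat.add_mul_mod_self_left,
            Nat.mod_eq_of_lt (show q - 1 < q by omega)]
        · rw [show a - 1 = q - 1 + q * (m - 1) by rw [Nat.mul_sub_one, ← hm]; omega,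
            Nat.add_mul_mod_self_left, Nat.mod_eq_of_lt (show q - 1 < q by omega),
            Nat.mod_eq_of_lt (show q - 2 < q by omega)]
          omega
        · intro h0
          have hpq : p ∣ q := hqdef ▸ dvd_pow_self p (by omega)
          have h1 : p ∣ q - 1 := hpb.trans (Nat.dvd_of_mod_eq_zero h0)
          have := Nat.dvd_sub hpq h1
          rw [show q - (q - 1) = 1 by omega, Nat.dvd_one] at this
          omega
      · have hT' : q + 1 < a := by omega
        refine ⟨q + 1, 1, q + 1, 0, hT', by omega, ?_, ?_,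
          Or.inl ⟨htail _ (by omega) hT', rfl⟩, Or.inr (Or.inr ⟨id, hb1 ▸ h0start, rfl⟩)⟩
        · rw [Nat.add_mod_left]
        · rw [Nat.add_mod_left, Nat.zero_mod, Nat.mod_eq_of_lt (by omega)]; omega
  · -- no fixed points
    obtain ⟨hpc, hc3'⟩ := hbig (a - 1) (by omega) (by rw [← hc]; omega)
    rw [← hc] at hpc hc3'
    obtain ⟨f, hf, hgood⟩ : ∃ f, (f = 1 ∨ f = 2) ∧ ¬ p ∣ (nonStarts a b).card + f := by
      by_cases h : p ∣ (nonStarts a b).card + 1
      · refine ⟨2, Or.inr rfl, fun h2 => ?_⟩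
        have := Nat.dvd_sub h2 h
        rw [show (nonStarts a b).card + 2 - ((nonStarts a b).card + 1) = 1 by omega,
          Nat.dvd_one] at this
        omega
      · exact ⟨1, Or.inl rfl, h⟩
    have hfc : f * c ≤ 2 * c := Nat.mul_le_mul_right c (by omega)
    have hdvd : c ∣ a - f * c := Nat.dvd_sub hca (dvd_mul_left _ _)
    let fwd : ℕ → Prop := fun x => a - f * c ≤ x ∧ x < a
    have hfwd : ∀ x < a, (fwd x ↔ fwd (x / b x * b x)) ∧ (fwd x → 3 ≤ b x) := by
      intro x hx
      refine ⟨?_, fun h => by rw [hlastc x (by have := h.1; omega) hx]; exact hc3'⟩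
      have hle : x / b x * b x ≤ x := Nat.div_mul_le_self _ _
      refine ⟨fun h => ⟨hmul x hx _ h.1 ?_, by omega⟩, fun h => ⟨h.1.trans hle, hx⟩⟩
      rw [hlastc x (by have := h.1; omega) hx]; exact hdvd
    have hcount : ¬ p ∣ (Finset.univ.filter
        (fun x : Fin a => x.val % b x.val ≠ 0 ∧ ¬ fwd x.val)).card := by
      have hsplit : (Finset.univ.filter
          (fun x : Fin a => x.val % b x.val ≠ 0 ∧ ¬ fwd x.val)).card + f * (c - 1) =
          (nonStarts a b).card := by
        rw [← card_run (a := a) (b := b) (f := f) hcpos hdvd (by omega)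
          (fun x h1 h2 => hlastc x (by omega) (by omega)), nonStarts,
          Nat.sub_add_cancel (show f * c ≤ a by omega), ← Finset.card_union_of_disjoint]
        · congr 1; ext x; simp [fwd]; by_cases h : x.val % b x.val = 0 <;> simp [h] <;> omega
        · rw [Finset.disjoint_filter]; intro x _ h1 h2; exact h1.2 h2.2
      intro h
      apply hgood
      rw [← hsplit, add_assoc, show f * (c - 1) + f = f * c by
        rw [← Nat.mul_succ, Nat.succ_eq_add_one, Nat.sub_add_cancel hcpos]]
      exact Nat.dvd_add h (dvd_mul_of_dvd_right hpc f)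
    refine goodPair_reversed ha hp hp3 hk0 hb hblt W hW hWp fwd hfwd hcount ?_
    intro i hi hik
    obtain ⟨hq3, hqa, hqd⟩ := hq i hi hik
    set q := p ^ i with hqdef
    have hfc1 : c ≤ f * c := Nat.le_mul_of_pos_left c (by omega)
    set x₀ := a - c + 1 with hx₀
    have hXf : fwd x₀ ∧ x₀ % b x₀ + 1 < b x₀ := by
      refine ⟨⟨by omega, by omega⟩, ?_⟩
      rw [hlastc x₀ (by omega) (by omega)]
      obtain ⟨t, ht⟩ := Nat.dvd_sub hca (dvd_refl c)
      rw [hx₀, ht, Nat.mul_add_mod, Nat.mod_eq_of_lt (by omega)]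
      omega
    by_cases hqc : q ≤ c
    · have hqc' : q ∣ c := by
        rw [hqdef, hc, hcpow]
        exact pow_dvd_pow p ((Nat.pow_le_pow_iff_right hp.one_lt).1 (hcpow ▸ hqc))
      obtain ⟨t, ht⟩ := Nat.dvd_sub hqd hqc'
      refine ⟨x₀, 1, x₀ + 1, 0, by omega, by omega, ?_, ?_,
        Or.inr (Or.inl ⟨hXf.1, hXf.2, rfl⟩),
        Or.inr (Or.inr ⟨fun h => by have := h.1; omega, hb1 ▸ h0start, rfl⟩)⟩
      · rw [hx₀, ht, Nat.mul_add_mod]
      · rw [hx₀, ht, add_assoc, Nat.mul_add_mod, Nat.mod_eq_of_lt (by omega), Nat.zero_mod]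
        omega
    · have hcq : c ∣ q := by
        rw [hqdef, hc, hcpow]
        exact pow_dvd_pow p
          ((Nat.pow_le_pow_iff_right hp.one_lt).1 (hcpow ▸ le_of_lt (Nat.lt_of_not_le hqc)))
      obtain ⟨m, hm⟩ := hqd
      have hm1 : 1 ≤ m := by
        rcases m with _ | m
        · rw [mul_zero] at hm; omega
        · omega
      have hy : q - c + 1 < a - f * c := by omega
      have hy1 : (q - c + 1) % b (q - c + 1) ≠ 0 := by
        intro h0
        have h1 : c ∣ q - c + 1 :=
          (hb.dvd_of_le hp (by omega) (by omega)).trans (Nat.dvd_of_mod_eq_zero h0)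
        have h2 := Nat.dvd_sub h1 (Nat.dvd_sub hcq (dvd_refl c))
        rw [show q - c + 1 - (q - c) = 1 by omega, Nat.dvd_one] at h2
        omega
      have he : a - c = q * (m - 1) + (q - c) := by rw [Nat.mul_sub_one, ← hm]; omega
      refine ⟨x₀, q - c + 1, x₀ + 1, q - c, by omega, by omega, ?_, ?_,
        Or.inr (Or.inl ⟨hXf.1, hXf.2, rfl⟩),
        Or.inr (Or.inr ⟨fun h => by have := h.1; omega, hy1, rfl⟩)⟩
      · rw [hx₀, he, add_assoc, Nat.mul_add_mod]
      · rw [hx₀, he, add_assoc, add_assoc, Nat.mul_add_mod]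
        intro h
        have h' : q - c + (1 + 1) ≡ q - c [MOD q] := h
        have := (Nat.modEq_iff_dvd' (Nat.le_add_right _ _)).1 h'.symm
        rw [Nat.add_sub_cancel_left] at this
        have := Nat.le_of_dvd (by omega) this
        omega

end Cfsg.Agent.H62.PBlocks
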