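import Cfsg.Agent.H62.PElementBlocks

/-!
For two non-identity `p`-elements of `A_n`, `n ≥ 5`, some conjugate of the second makes the
product no `p`-element and the generated subgroup non-solvable.
-/

set_option autoImplicit false

namespace Cfsg.Agent.H62.PPairs

open Equiv PBlocks OrbitTiling

theorem goodPair_of_words {a : ℕ} {U V X Y : Perm (Fin a)}
    (hX : X ∈ Subgroup.closure ({U, V} : Set (Perm (Fin a))))
    (hY : Y ∈ Subgroup.closure ({U, V} : Set (Perm (Fin a))))
    (h : (U * V) ^ 5 = 1 ∧ U * V ≠ 1 ∧ X ^ 2 = 1 ∧ X ≠ 1 ∧ Y ^ 3 = 1 ∧ (X * Y) ^ 5 = 1) :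
    GoodPair 3 U V := by
  obtain ⟨h5, hne, hx2, hx1, hy3, hxy⟩ := h
  refine ⟨fun ⟨e, he⟩ => hne ?_, fun hsol => ?_⟩
  · have : Fact (Nat.Prime 5) := ⟨by norm_num⟩
    by_contra hne'
    have hord : orderOf (U * V) = 5 := orderOf_eq_prime h5 hne'
    have hd : 5 ∣ 3 ^ e := hord ▸ orderOf_dvd_of_pow_eq_one he
    have := (show Nat.Prime 5 by norm_num).dvd_of_dvd_pow hd
    omega
  · set K := Subgroup.closure ({U, V} : Set (Perm (Fin a)))
    let x : K := ⟨X, hX⟩
    let y : K := ⟨Y, hY⟩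
    have hmem : ∀ j, x ∈ derivedSeries K j ∧ y ∈ derivedSeries K j := fun j => by
      induction j with
      | zero => exact ⟨Subgroup.mem_top _, Subgroup.mem_top _⟩
      | succ j ih =>
        let π := QuotientGroup.mk' (derivedSeries K (j + 1))
        have hc : Commute (π x) (π y) := by
          rw [← commutatorElement_eq_one_iff_commute, ← map_commutatorElement]
          refine (QuotientGroup.eq_one_iff _).2 ?_
          rw [derivedSeries_succ]
          exact Subgroup.commutator_mem_commutator ih.1 ih.2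
        have hx' : π x ^ 2 = 1 := by
          rw [← map_pow, show x ^ 2 = 1 from Subtype.ext hx2, map_one]
        have hy' : π y ^ 3 = 1 := by
          rw [← map_pow, show y ^ 3 = 1 from Subtype.ext hy3, map_one]
        have hxy' : π x ^ 5 * π y ^ 5 = 1 := by
          rw [← hc.mul_pow, ← map_mul, ← map_pow, show (x * y) ^ 5 = 1 from Subtype.ext hxy, map_one]
        have e1 : π x ^ 5 = π x := by
          rw [show 5 = 2 * 2 + 1 from rfl, pow_succ, pow_mul, hx', one_pow, one_mul]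
        have e2 : π y ^ 5 = π y ^ 2 := by
          rw [show 5 = 3 + 2 from rfl, pow_add, hy', one_mul]
        rw [e1, e2] at hxy'
        have e3 : π x = π y := by
          calc π x = π x * (π y ^ 2 * π y) := by rw [← pow_succ, hy', mul_one]
            _ = π y := by rw [← mul_assoc, hxy', one_mul]
        have e4 : π y = 1 := by
          rw [e3] at hx'
          rw [show (3 : ℕ) = 2 + 1 from rfl, pow_succ, hx', one_mul] at hy'
          exact hy'
        exact ⟨(QuotientGroup.eq_one_iff _).1 (e3.trans e4), (QuotientGroup.eq_one_iff _).1 e4⟩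
    obtain ⟨j, hj⟩ := hsol
    have := (hmem j).1
    rw [hj, Subgroup.mem_bot] at this
    exact hx1 (congrArg Subtype.val this)

theorem word_mem {a : ℕ} (U V : Perm (Fin a)) :
    U * V * U * V⁻¹ ∈ Subgroup.closure ({U, V} : Set (Perm (Fin a))) ∧
      U * V⁻¹ * U * V⁻¹ ∈ Subgroup.closure ({U, V} : Set (Perm (Fin a))) ∧
      U ∈ Subgroup.closure ({U, V} : Set (Perm (Fin a))) ∧
      V ∈ Subgroup.closure ({U, V} : Set (Perm (Fin a))) := by
  have hU : U ∈ Subgroup.closure ({U, V} : Set (Perm (Fin a))) :=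
    Subgroup.subset_closure (Or.inl rfl)
  have hV : V ∈ Subgroup.closure ({U, V} : Set (Perm (Fin a))) :=
    Subgroup.subset_closure (Or.inr rfl)
  exact ⟨mul_mem (mul_mem (mul_mem hU hV) hU) (inv_mem hV),
    mul_mem (mul_mem (mul_mem hU (inv_mem hV)) hU) (inv_mem hV), hU, hV⟩

/-- A single three-cycle on five points. -/
def c5 : Perm (Fin 5) := swap 0 2 * swap 0 1
/-- A single three-cycle on six points. -/
def c6 : Perm (Fin 6) := swap 0 2 * swap 0 1
/-- Two three-cycles on six points. -/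
def d6 : Perm (Fin 6) := swap 0 2 * swap 0 1 * (swap 3 5 * swap 3 4)

theorem goodPair_five : ∃ π : Perm (Fin 5), GoodPair 3 c5 (π * c5 * π⁻¹) :=
  ⟨swap 1 3 * swap 2 4, goodPair_of_words (word_mem _ _).1 (word_mem _ _).2.2.2 (by decide +kernel)⟩

theorem goodPair_six : ∀ U W : Perm (Fin 6), (U = c6 ∨ U = d6) → (W = c6 ∨ W = d6) →
    ∃ π : Perm (Fin 6), GoodPair 3 U (π * W * π⁻¹) := by
  rintro U W (rfl | rfl) (rfl | rfl)
  · exact ⟨swap 1 3 * swap 2 4,
      goodPair_of_words (word_mem _ _).1 (word_mem _ _).2.2.2 (by decide +kernel)⟩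
  · exact ⟨swap 1 3 * swap 1 2,
      goodPair_of_words (word_mem _ _).2.1 (word_mem _ _).2.2.1 (by decide +kernel)⟩
  · exact ⟨swap 1 3 * swap 1 2,
      goodPair_of_words (word_mem _ _).2.1 (word_mem _ _).2.2.1 (by decide +kernel)⟩
  · exact ⟨swap 2 4 * swap 2 3,
      goodPair_of_words (word_mem _ _).1 (word_mem _ _).2.2.2 (by decide +kernel)⟩

variable {n : ℕ}

theorem goodPair_lift {p a : ℕ} (ι : Fin a ↪ Fin n) {u v : Perm (Fin n)} {U V : Perm (Fin a)}
    (hu : ∀ x, u (ι x) = ι (U x)) (hv : ∀ x, v (ι x) = ι (V x)) (h : GoodPair p U V) :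
    GoodPair p u v := by
  set K := Subgroup.closure ({u, v} : Set (Perm (Fin n)))
  have hex : ∀ g ∈ K, ∃ G : Perm (Fin a), ∀ x, g (ι x) = ι (G x) := fun g hg => by
    induction hg using Subgroup.closure_induction with
    | mem x hx =>
      rcases hx with rfl | rfl
      · exact ⟨U, hu⟩
      · exact ⟨V, hv⟩
    | one => exact ⟨1, fun x => rfl⟩
    | mul g g' _ _ hg hg' =>
      obtain ⟨G, hG⟩ := hg
      obtain ⟨G', hG'⟩ := hg'
      exact ⟨G * G', fun x => by rw [Perm.mul_apply, hG', hG, Perm.mul_apply]⟩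
    | inv g _ hg =>
      obtain ⟨G, hG⟩ := hg
      exact ⟨G⁻¹, fun x => by
        rw [Perm.inv_eq_iff_eq, hG, show G (G⁻¹ x) = x from G.apply_symm_apply x]⟩
  choose G hG using hex
  have huniq : ∀ g hg (H : Perm (Fin a)), (∀ x, g (ι x) = ι (H x)) → G g hg = H :=
    fun g hg H hH => Equiv.ext fun x => ι.injective ((hG g hg x).symm.trans (hH x))
  let ρ : K →* Perm (Fin a) := MonoidHom.mk' (fun g => G g.1 g.2) (fun g g' => huniq _ _ _ fun x => by
    rw [Subgroup.coe_mul, Perm.mul_apply, hG g'.1 g'.2, hG g.1 g.2, Perm.mul_apply])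
  have huK : u ∈ K := Subgroup.subset_closure (Or.inl rfl)
  have hvK : v ∈ K := Subgroup.subset_closure (Or.inr rfl)
  have hρu : ρ ⟨u, huK⟩ = U := huniq _ _ _ hu
  have hρv : ρ ⟨v, hvK⟩ = V := huniq _ _ _ hv
  refine ⟨fun ⟨e, he⟩ => h.1 ⟨e, ?_⟩, fun hsol => h.2 ?_⟩
  · rw [← hρu, ← hρv, ← map_mul, ← map_pow, show (⟨u, huK⟩ * ⟨v, hvK⟩ : K) ^ (p ^ e) = 1 from
      Subtype.ext (by rw [Subgroup.coe_pow]; exact he), map_one]
  · have hle : Subgroup.closure ({U, V} : Set (Perm (Fin a))) ≤ ρ.range := by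
      rw [Subgroup.closure_le]
      rintro _ (rfl | rfl)
      · exact ⟨_, hρu⟩
      · exact ⟨_, hρv⟩
    have := hsol
    have : Group.IsSolvable ρ.range := solvable_of_surjective ρ.rangeRestrict_surjective
    exact solvable_of_solvable_injective (Subgroup.inclusion_injective hle)

theorem exists_map {a : ℕ} (e e' : Fin a ↪ Fin n) :
    ∃ g : Perm (Fin n), ∀ x, g (e x) = e' x := by
  classical
  let E : {y // y ∈ Set.range e} ≃ {y // y ∈ Set.range e'} :=
    (Equiv.ofInjective e e.injective).symm.trans (Equiv.ofInjective e' e'.injective)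
  refine ⟨E.extendSubtype, fun x => ?_⟩
  rw [Equiv.extendSubtype_apply_of_mem E _ ⟨x, rfl⟩]
  simp [E]

theorem exists_good_conj {p a : ℕ} (ι f : Fin a ↪ Fin n) {u w : Perm (Fin n)}
    {U W : Perm (Fin a)} (hu : ∀ x, u (ι x) = ι (U x)) (hw : ∀ x, w (f x) = f (W x))
    (σ : Perm (Fin a)) (hσ : GoodPair p U (σ * W * σ⁻¹))
    (halt : (∃ z : Perm (Fin n), Perm.sign z = -1 ∧ z * w * z⁻¹ = w) ∨
      ∃ σ' : Perm (Fin a), Perm.sign σ ≠ Perm.sign σ' ∧ GoodPair p U (σ' * W * σ'⁻¹)) :
    ∃ g : Perm (Fin n), Perm.sign g = 1 ∧ GoodPair p u (g * w * g⁻¹) := by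
  obtain ⟨g, hg⟩ := exists_map (σ⁻¹.toEmbedding.trans f) ι
  have hg' : ∀ x, g (f (σ⁻¹ x)) = ι x := hg
  have key : ∀ (g : Perm (Fin n)) (τ : Perm (Fin a)), (∀ x, g (f (τ⁻¹ x)) = ι x) →
      GoodPair p U (τ * W * τ⁻¹) → GoodPair p u (g * w * g⁻¹) := fun g τ hgτ hgood => by
    refine goodPair_lift ι hu (fun x => ?_) hgood
    rw [Perm.mul_apply, Perm.mul_apply, Perm.inv_eq_iff_eq.2 (hgτ x).symm, hw,
      Perm.mul_apply, Perm.mul_apply, ← hgτ (τ (W (τ⁻¹ x))),
      show τ⁻¹ (τ (W (τ⁻¹ x))) = W (τ⁻¹ x) from τ.symm_apply_apply _]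
  rcases Int.units_eq_one_or (Perm.sign g) with h1 | h1
  · exact ⟨g, h1, key g σ hg' hσ⟩
  rcases halt with ⟨z, hz, hzw⟩ | ⟨σ', hne, hσ'⟩
  · refine ⟨g * z, by rw [map_mul, h1, hz]; decide, ?_⟩
    rw [_root_.mul_inv_rev, show g * z * w * (z⁻¹ * g⁻¹) = g * (z * w * z⁻¹) * g⁻¹ by group, hzw]
    exact key g σ hg' hσ
  · refine ⟨Perm.viaEmbeddingHom ι (σ' * σ⁻¹) * g, ?_, key _ σ' (fun x => ?_) hσ'⟩
    · have hs : Perm.sign (Perm.viaEmbeddingHom ι (σ' * σ⁻¹)) = Perm.sign (σ' * σ⁻¹) := by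
        generalize σ' * σ⁻¹ = τ
        induction τ using Perm.swap_induction_on with
        | one => simp
        | swap_mul τ x y hxy ih =>
          have : Perm.viaEmbeddingHom ι (swap x y) = swap (ι x) (ι y) := by
            ext z : 1
            by_cases hz : z ∈ Set.range ι
            · obtain ⟨i, rfl⟩ := hz
              rw [Perm.viaEmbeddingHom_apply, Perm.viaEmbedding_apply]
              exact (ι.injective.swap_apply x y i).symm
            · rw [Perm.viaEmbeddingHom_apply, Perm.viaEmbedding_apply_of_notMem _ _ _ hz,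
                swap_apply_of_ne_of_ne (fun e => hz ⟨x, e.symm⟩) (fun e => hz ⟨y, e.symm⟩)]
          rw [map_mul, map_mul, map_mul, ih, this, Perm.sign_swap hxy,
            Perm.sign_swap (ι.injective.ne hxy)]
      rw [map_mul, hs, h1, map_mul, Perm.sign_inv]
      rcases Int.units_eq_one_or (Perm.sign σ) with a1 | a1 <;>
        rcases Int.units_eq_one_or (Perm.sign σ') with a2 | a2 <;>
          simp [a1, a2] at hne ⊢
    · rw [Perm.mul_apply, show σ'⁻¹ x = σ⁻¹ (σ (σ'⁻¹ x)) from (σ.symm_apply_apply _).symm, hg',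
        Perm.viaEmbeddingHom_apply, Perm.viaEmbedding_apply]
      simp

theorem per_le (w : Perm (Fin n)) (z : Fin n) : per w z ≤ n := by
  have hinj : Function.Injective (fun i : Fin (per w z) => (⇑w)^[i.val] z) := fun i j h =>
    Fin.ext ((Function.iterate_eq_iterate_iff_of_lt_minimalPeriod i.isLt j.isLt).1 h)
  simpa using Fintype.card_le_of_injective _ hinj

theorem exists_moved_per {w : Perm (Fin n)} (hw : w ≠ 1) : ∃ z, per w z ≠ 1 := by
  by_contra h
  push Not at h
  exact hw (Equiv.ext fun z => by simpa using (per_dvd_iff w z 1).2 (by rw [h z]))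

theorem shape_of_good {w : Perm (Fin n)} {p E a : ℕ} (hp : p.Prime) (hw : w ^ (p ^ E) = 1)
    {f : ℕ → Fin n} {b : ℕ → ℕ} (h : Good w a f b) : Shape p a b :=
  ⟨fun _ hx => h.b_eq hp hw hx, h.seg, h.const, h.anti⟩

/-- The case where the longest orbit of `u` is at least as long as those of `w`. -/
theorem exists_conj_aux (hn : 5 ≤ n) {p E : ℕ} (hp : p.Prime) (hp3 : 3 ≤ p) {u w : Perm (Fin n)}
    (hu1 : u ≠ 1) (hw1 : w ≠ 1) (hu : u ^ (p ^ E) = 1) (hw : w ^ (p ^ E) = 1) {zu : Fin n}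
    (humax : ∀ z, per u z ≤ per u zu) (hwle : ∀ z, per w z ≤ per u zu) :
    ∃ g : Perm (Fin n), Perm.sign g = 1 ∧ GoodPair p u (g * w * g⁻¹) := by
  classical
  obtain ⟨k, -, hk⟩ := (Nat.dvd_prime_pow hp).1 (per_dvd_pow hu zu)
  have hk0 : 1 ≤ k := by
    rcases Nat.eq_zero_or_pos k with rfl | h
    · obtain ⟨z, hz⟩ := exists_moved_per hu1
      have := humax z
      have := per_pos hp hu z
      rw [hk, pow_zero] at *
      omega
    · exact h
  have hdvd : ∀ (v : Perm (Fin n)), v ^ (p ^ E) = 1 → (∀ z, per v z ≤ per u zu) →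
      ∀ z, per v z ∣ p ^ k := fun v hv hle z => by
    obtain ⟨i, -, hi⟩ := (Nat.dvd_prime_pow hp).1 (per_dvd_pow hv z)
    rw [hi]
    have := hle z
    rw [hi, hk] at this
    exact pow_dvd_pow p ((Nat.pow_le_pow_iff_right hp.one_lt).1 this)
  by_cases hbig : 5 ≤ p ^ k
  · generalize hA : p ^ k = a at hbig
    have han : a ≤ n := hA ▸ hk ▸ per_le u zu
    obtain ⟨f, b, hf⟩ := exists_good hp hu (show 0 < a by omega) han
      (Or.inl (fun z => hA ▸ hdvd u hu humax z))
    obtain ⟨U, hU, hUval, -⟩ := hf.exists_restrict hp hu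
    have hb0 : b 0 = a := by
      refine le_antisymm (by simpa using hf.seg 0 (by omega)) ?_
      rw [← hA, ← hk]
      exact hf.per_le_first (by omega) zu
    have hUrot : U = finRotate a := by
      refine Equiv.ext fun x => Fin.ext ?_
      have hbx : b x.val = a := by
        have := hf.const 0 (by omega) x.val (by rw [hb0]; exact x.isLt)
        simpa [hb0] using this
      rw [hUval, hbx, PBlocks.rot_val, Nat.div_eq_of_lt x.isLt, Nat.mod_eq_of_lt x.isLt]
      simp
    obtain ⟨f', b', hf'⟩ := exists_good hp hw (show 0 < a by omega) han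
      (Or.inl (fun z => hA ▸ hdvd w hw hwle z))
    obtain ⟨W, hW, hWval, hWp⟩ := hf'.exists_restrict hp hw
    by_cases hb' : b' 0 = a
    · have hWrot : W = finRotate a := by
        refine Equiv.ext fun x => Fin.ext ?_
        have hbx : b' x.val = a := by
          have := hf'.const 0 (by omega) x.val (by rw [hb']; exact x.isLt)
          simpa [hb'] using this
        rw [hWval, hbx, PBlocks.rot_val, Nat.div_eq_of_lt x.isLt, Nat.mod_eq_of_lt x.isLt]
        simp
      subst hA
      obtain ⟨σ, σ', hne, h1, h2⟩ := goodPair_equal hp hp3 hk0 hbig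
      exact exists_good_conj hf.emb hf'.emb hU hW σ (hUrot ▸ hWrot ▸ h1)
        (Or.inr ⟨σ', hne, hUrot ▸ hWrot ▸ h2⟩)
    · have hlt : ∀ x < a, b' x < a := fun x hx => by
        have h1 := hf'.anti 0 x (Nat.zero_le _) hx
        have h2 : b' 0 ≤ a := by simpa using hf'.seg 0 (by omega)
        omega
      have h1 : 1 < b' 0 := by
        obtain ⟨z, hz⟩ := exists_moved_per hw1
        have := per_pos hp hw z
        have := hf'.per_le_first (by omega) z
        omega
      obtain ⟨⟨π, hπ⟩, c, hc, hca, hcd, hlast⟩ :=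
        goodPair_tiling hA.symm hp hp3 (shape_of_good hp hw hf') hlt h1 (by omega) W hWval ⟨E, hWp⟩
      exact exists_good_conj hf.emb hf'.emb hU hW π (hUrot ▸ hπ)
        (Or.inl (hf'.exists_odd_comm hp hw hc hca hcd hlast))
  · obtain rfl : k = 1 := by
      by_contra hk1
      have : p ^ 2 ≤ p ^ k := Nat.pow_le_pow_right hp.pos (by omega)
      nlinarith
    rw [pow_one] at hbig
    obtain rfl : p = 3 := by
      rcases (show p = 3 ∨ p = 4 by omega) with h | h
      · exact h
      · exact absurd (h ▸ hp) (by norm_num)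
    rw [pow_one] at hdvd
    have data : ∀ (v : Perm (Fin n)), v ≠ 1 → v ^ (3 ^ E) = 1 → (∀ z, per v z ≤ per u zu) →
        ∀ a, (a = 5 ∧ n = 5) ∨ (a = 6 ∧ 6 ≤ n) →
        ∃ (f : ℕ → Fin n) (b : ℕ → ℕ) (hf : Good v a f b) (V : Perm (Fin a)),
          (∀ x, v (hf.emb x) = hf.emb (V x)) ∧
          (∀ x : Fin a, (V x).val = x.val / b x * b x + (x.val % b x + 1) % b x) ∧
          (∀ x < 3, b x = 3) ∧
          ((∀ x, 3 ≤ x → x < a → b x = 1) ∨ (a = 6 ∧ ∀ x, 3 ≤ x → x < a → b x = 3)) := by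
      intro v hv1 hv hle a ha
      have hd := hdvd v hv hle
      obtain ⟨f, b, hf⟩ := exists_good hp hv (a := a) (by omega) (by omega) (by
        rcases ha with ⟨rfl, rfl⟩ | ⟨rfl, -⟩
        · exact Or.inr rfl
        · exact Or.inl fun z => (hd z).trans (by norm_num))
      obtain ⟨V, hV, hVval, -⟩ := hf.exists_restrict hp hv
      have hb13 : ∀ x < a, b x = 1 ∨ b x = 3 := fun x hx => by
        rw [hf.bper x hx]
        exact (Nat.dvd_prime Nat.prime_three).1 (hd _)
      have hb0 : b 0 = 3 := by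
        obtain ⟨z, hz⟩ := exists_moved_per hv1
        have := per_pos hp hv z
        have := hf.per_le_first (by omega) z
        rcases hb13 0 (by omega) with h | h <;> omega
      have hfirst : ∀ x < 3, b x = 3 := fun x hx => by
        have := hf.const 0 (by omega) x (by omega)
        simpa [hb0] using this
      refine ⟨f, b, hf, V, hV, hVval, hfirst, ?_⟩
      rcases hb13 3 (by omega) with h3 | h3
      · refine Or.inl fun x h1 h2 => ?_
        rcases hb13 x h2 with h | h
        · exact h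
        · have := hf.anti 3 x h1 h2; omega
      · have hseg := hf.seg 3 (by omega)
        rw [h3] at hseg
        obtain rfl : a = 6 := by omega
        refine Or.inr ⟨rfl, fun x h1 h2 => ?_⟩
        have := hf.const 3 (by omega) (x - 3) (by omega)
        rw [h3] at this
        simpa [show 3 + (x - 3) = x by omega] using this
    rcases Nat.lt_or_ge n 6 with h5 | h6
    · obtain ⟨f, b, hf, U, hU, hUval, hb, hb'⟩ := data u hu1 hu humax 5 (Or.inl ⟨rfl, by omega⟩)
      obtain ⟨f', b', hf', W, hW, hWval, hc, hc'⟩ := data w hw1 hw hwle 5 (Or.inl ⟨rfl, by omega⟩)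
      replace hb' := hb'.resolve_right (by omega)
      replace hc' := hc'.resolve_right (by omega)
      have hshape : ∀ (b : ℕ → ℕ) (V : Perm (Fin 5)), (∀ x < 3, b x = 3) →
          (∀ x, 3 ≤ x → x < 5 → b x = 1) →
          (∀ x : Fin 5, (V x).val = x.val / b x * b x + (x.val % b x + 1) % b x) → V = c5 := by
        intro b V h1 h2 h3
        refine Equiv.ext fun x => Fin.ext ?_
        rw [h3]
        fin_cases x <;> simp [h1, h2, c5, swap_apply_def]
      obtain ⟨π, hπ⟩ := goodPair_five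
      obtain rfl := hshape b U hb hb' hUval
      obtain rfl := hshape b' W hc hc' hWval
      exact exists_good_conj hf.emb hf'.emb hU hW π hπ (Or.inl (hf'.exists_odd_comm hp hw
        odd_one (by norm_num) (one_dvd _) (fun x h1 h2 => hc' x (by omega) h2)))
    · obtain ⟨f, b, hf, U, hU, hUval, hb, hb'⟩ := data u hu1 hu humax 6 (Or.inr ⟨rfl, h6⟩)
      obtain ⟨f', b', hf', W, hW, hWval, hc, hc'⟩ := data w hw1 hw hwle 6 (Or.inr ⟨rfl, h6⟩)
      have hshape : ∀ (b : ℕ → ℕ) (V : Perm (Fin 6)), (∀ x < 3, b x = 3) →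
          ((∀ x, 3 ≤ x → x < 6 → b x = 1) ∨ (6 = 6 ∧ ∀ x, 3 ≤ x → x < 6 → b x = 3)) →
          (∀ x : Fin 6, (V x).val = x.val / b x * b x + (x.val % b x + 1) % b x) →
          V = c6 ∨ V = d6 := by
        intro b V h1 h2 h3
        rcases h2 with h2 | ⟨-, h2⟩
        · refine Or.inl (Equiv.ext fun x => Fin.ext ?_)
          rw [h3]
          fin_cases x <;> simp [h1, h2, c6, swap_apply_def]
        · refine Or.inr (Equiv.ext fun x => Fin.ext ?_)
          rw [h3]
          fin_cases x <;> simp [h1, h2, d6, swap_apply_def]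
      obtain ⟨π, hπ⟩ := goodPair_six U W (hshape b U hb hb' hUval) (hshape b' W hc hc' hWval)
      refine exists_good_conj hf.emb hf'.emb hU hW π hπ (Or.inl ?_)
      rcases hc' with hc' | ⟨-, hc'⟩
      · exact hf'.exists_odd_comm hp hw odd_one (by norm_num) (one_dvd _)
          (fun x h1 h2 => hc' x (by omega) h2)
      · refine hf'.exists_odd_comm hp hw (c := 3) (by decide) le_rfl (by norm_num)
          (fun x _ h2 => ?_)
        rcases Nat.lt_or_ge x 3 with h | h
        · exact hc x h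
        · exact hc' x h h2

theorem goodPair_conj {a p : ℕ} {U V : Perm (Fin a)} (g : Perm (Fin a)) (h : GoodPair p U V) :
    GoodPair p (g * U * g⁻¹) (g * V * g⁻¹) :=
  goodPair_lift g.toEmbedding (fun x => by simp) (fun x => by simp) h

theorem goodPair_symm {a p : ℕ} {U V : Perm (Fin a)} (h : GoodPair p U V) : GoodPair p V U := by
  refine ⟨fun ⟨e, he⟩ => h.1 ⟨e, ?_⟩, ?_⟩
  · rw [show U * V = V⁻¹ * (V * U) * V⁻¹⁻¹ by group, conj_pow, he]
    group
  · rw [Set.pair_comm]; exact h.2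

/-- The product and the generated subgroup can both be spoiled by conjugating in `A_n`. -/
theorem exists_conj (hn : 5 ≤ n) {p E : ℕ} (hp : p.Prime) (hp3 : 3 ≤ p) {u w : Perm (Fin n)}
    (hu1 : u ≠ 1) (hw1 : w ≠ 1) (hu : u ^ (p ^ E) = 1) (hw : w ^ (p ^ E) = 1) :
    ∃ g : Perm (Fin n), Perm.sign g = 1 ∧ GoodPair p u (g * w * g⁻¹) := by
  classical
  have : Nonempty (Fin n) := ⟨⟨0, by omega⟩⟩
  obtain ⟨zu, -, hzu⟩ := Finset.exists_max_image Finset.univ (per u) Finset.univ_nonempty
  obtain ⟨zw, -, hzw⟩ := Finset.exists_max_image Finset.univ (per w) Finset.univ_nonempty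
  rcases le_total (per w zw) (per u zu) with h | h
  · exact exists_conj_aux hn hp hp3 hu1 hw1 hu hw (fun z => hzu z (Finset.mem_univ z))
      (fun z => (hzw z (Finset.mem_univ z)).trans h)
  · obtain ⟨g, hg, hgood⟩ := exists_conj_aux hn hp hp3 hw1 hu1 hw hu
      (fun z => hzw z (Finset.mem_univ z)) (fun z => (hzu z (Finset.mem_univ z)).trans h)
    refine ⟨g⁻¹, by rw [Perm.sign_inv, hg], ?_⟩
    have := goodPair_symm (goodPair_conj g⁻¹ hgood)
    rwa [show g⁻¹ * (g * u * g⁻¹) * g⁻¹⁻¹ = u by group] at this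

end Cfsg.Agent.H62.PPairs
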