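import Cfsg.Agent.H62.OddIndex
import Cfsg.Agent.H62.DyadicOrbits

/-!
When does a Sylow 2-subgroup of `A_n` or `S_n` lie in a unique maximal subgroup?
-/

set_option autoImplicit false

namespace Cfsg.Agent.H62

open Equiv Pointwise

variable {n : ℕ}

/-- The product of two double transpositions meeting in one point squares to a three-cycle. -/
theorem isThreeCycle_of_double_swaps {a x y z p q r : Fin n} (hax : a ≠ x) (hap : a ≠ p) (hxp : x ≠ p)
    (hy : y ≠ a ∧ y ≠ x ∧ y ≠ p) (hz : z ≠ a ∧ z ≠ x ∧ z ≠ p) (hq : q ≠ a ∧ q ≠ x ∧ q ≠ p ∧ q ≠ y ∧ q ≠ z)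
    (hr : r ≠ a ∧ r ≠ x ∧ r ≠ p ∧ r ≠ y ∧ r ≠ z) :
    Perm.IsThreeCycle ((swap a x * swap y z * (swap a p * swap q r)) *
      (swap a x * swap y z * (swap a p * swap q r))) := by
  have e : ∀ (u v s t : Fin n), u ≠ s → u ≠ t → v ≠ s → v ≠ t → Commute (swap u v) (swap s t) := by
    intro u v s t h1 h2 h3 h4
    show swap u v * swap s t = swap s t * swap u v
    rw [Equiv.mul_swap_eq_swap_mul, Equiv.swap_apply_of_ne_of_ne h1.symm h3.symm,
      Equiv.swap_apply_of_ne_of_ne h2.symm h4.symm]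
  set A := swap a x
  set Y := swap y z
  set B := swap a p
  set Q := swap q r
  have hYB : Commute Y B := e _ _ _ _ hy.1 hy.2.2 hz.1 hz.2.2
  have hQA : Commute Q A := e _ _ _ _ hq.1 hq.2.1 hr.1 hr.2.1
  have hYA : Commute Y A := e _ _ _ _ hy.1 hy.2.1 hz.1 hz.2.1
  have hQB : Commute Q B := e _ _ _ _ hq.1 hq.2.2.1 hr.1 hr.2.2.1
  have hQY : Commute Q Y := e _ _ _ _ hq.2.2.2.1 hq.2.2.2.2 hr.2.2.2.1 hr.2.2.2.2
  have hW : Commute (Y * Q) (A * B) :=
    ((hYA.mul_right hYB).mul_left (hQA.mul_right hQB))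
  have hYQ : (Y * Q) * (Y * Q) = 1 := by
    rw [hQY.mul_mul_mul_comm]
    simp [Y, Q]
  have hprod : A * Y * (B * Q) = (A * B) * (Y * Q) := by
    rw [hYB.mul_mul_mul_comm]
  rw [hprod, hW.mul_mul_mul_comm, hYQ, mul_one]
  exact Perm.IsThreeCycle.isThreeCycle_sq (Perm.isThreeCycle_swap_mul_swap_same hax hap hxp)

theorem dyadic_double_swap_mem (k l : Fin (n / 2)) :
    pairSwap n k * pairSwap n l ∈ dyadicSubgroup n ⊓ alternatingGroup (Fin n) :=
  ⟨mul_mem (pairSwap_mem k) (pairSwap_mem l), Perm.mem_alternatingGroup.2 (by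
    rw [map_mul, sign_pairSwap, sign_pairSwap]; decide)⟩

theorem five_three_cycle_spec : ∀ u : Perm (Fin 5), u * u = 1 → Perm.sign u = 1 → u 4 ≠ 4 →
    ∃ v ∈ kleinList, (v * u).support.card = 3 := by
  decide +kernel

theorem exists_three_cycle_of_transitive {k : ℕ} (hk : 2 ≤ k) (hn : n = 2 ^ k + 1)
    (M : Subgroup (Perm (Fin n))) (hE : dyadicSubgroup n ⊓ alternatingGroup (Fin n) ≤ M)
    (htr : ∀ i j : Fin n, ∃ g ∈ M, g i = j) : ∃ g ∈ M, Perm.IsThreeCycle g := by
  obtain ⟨K, rfl⟩ := Nat.exists_eq_add_of_le hk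
  have hpow : 2 ^ (2 + K) = 4 * 2 ^ K := by rw [pow_add]; norm_num
  rw [hpow] at hn
  have hK1 : 1 ≤ 2 ^ K := Nat.one_le_two_pow
  have hlast : ∀ i : Fin n, i.val ≠ n - 1 → i.val / 2 < n / 2 := fun i hi => by omega
  obtain ⟨g, hg, hgL⟩ := htr ⟨0, by omega⟩ ⟨n - 1, by omega⟩
  let k0 : Fin (n / 2) := ⟨0, by omega⟩
  let k1 : Fin (n / 2) := ⟨1, by omega⟩
  set u := g * (pairSwap n k0 * pairSwap n k1) * g⁻¹ with hu
  have huM : u ∈ M := mul_mem (mul_mem hg (hE (dyadic_double_swap_mem k0 k1))) (inv_mem hg)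
  set p := pairPoint n k0 with hp
  set p' := pairPoint' n k0 with hp'
  set q := pairPoint n k1 with hq
  set q' := pairPoint' n k1 with hq'
  have hp0 : g p = (⟨n - 1, by omega⟩ : Fin n) := by
    rw [← hgL]; congr 1
  have hu2 : u = swap (g p) (g p') * swap (g q) (g q') := by
    rw [Equiv.swap_apply_apply, Equiv.swap_apply_apply, hu]
    simp [pairSwap, hp, hp', hq, hq', mul_assoc]
  have hne : g p ≠ g p' ∧ g p ≠ g q ∧ g p ≠ g q' ∧ g p' ≠ g q ∧ g p' ≠ g q' ∧ g q ≠ g q' := by
    simp only [g.injective.ne_iff]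
    simp [hp, hp', hq, hq', k0, k1, pairPoint, pairPoint', Fin.ext_iff]
  by_cases hsmall : K = 0
  · subst hsmall
    obtain rfl : n = 5 := by simpa using hn
    obtain ⟨v, hv, h3⟩ := five_three_cycle_spec u
      (by rw [hu]; simp [pairSwap, k0, k1, pairPoint, pairPoint']; decide +revert)
      (by rw [hu2, map_mul, Perm.sign_swap hne.1, Perm.sign_swap hne.2.2.2.2.2]; decide)
      (by
        rw [hu2, Perm.mul_apply, show (4 : Fin 5) = g p from hp0.symm,
          Equiv.swap_apply_of_ne_of_ne hne.2.1 hne.2.2.1, Equiv.swap_apply_left]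
        exact hne.1.symm)
    exact ⟨v * u, mul_mem (hE ⟨(kleinList_mem hv).1, (kleinList_mem hv).2⟩) huM,
      card_support_eq_three_iff.1 h3⟩
  have hm : 4 ≤ n / 2 := by
    have h1 : 2 ^ 1 ≤ 2 ^ K := Nat.pow_le_pow_right (by norm_num) (by omega)
    omega
  -- a point moved by `u`, together with a fresh pair
  have key : ∀ (a b c d : Fin n), u = swap a b * swap c d → a ≠ b → a ≠ c → a ≠ d → b ≠ c → b ≠ d →
      c ≠ d → a.val ≠ n - 1 → (b.val = n - 1 ∨ a.val / 2 ≠ b.val / 2) →
      (c.val = n - 1 ∨ a.val / 2 ≠ c.val / 2) → (d.val = n - 1 ∨ a.val / 2 ≠ d.val / 2) →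
      ∃ g ∈ M, Perm.IsThreeCycle g := by
    intro a b c d hu' hab hac had hbc hbd hcd haL hb hc hd
    obtain ⟨l, hl0, hl1, hl2, hl3⟩ : ∃ l : Fin (n / 2), l.val ≠ a.val / 2 ∧ l.val ≠ b.val / 2 ∧
        l.val ≠ c.val / 2 ∧ l.val ≠ d.val / 2 := by
      by_contra hcon
      push Not at hcon
      have hone : b.val = n - 1 ∨ c.val = n - 1 ∨ d.val = n - 1 := by
        by_contra hL
        push Not at hL
        have hgp : u (g p) ≠ g p := by
          rw [hu2, Perm.mul_apply, Equiv.swap_apply_of_ne_of_ne hne.2.1 hne.2.2.1,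
            Equiv.swap_apply_left]
          exact hne.1.symm
        rw [hu', Perm.mul_apply, hp0] at hgp
        have hcd' : swap c d (⟨n - 1, by omega⟩ : Fin n) = ⟨n - 1, by omega⟩ :=
          Equiv.swap_apply_of_ne_of_ne (fun e => hL.2.1 (by rw [← e])) (fun e => hL.2.2 (by rw [← e]))
        rw [hcd'] at hgp
        exact hgp (Equiv.swap_apply_of_ne_of_ne (fun e => haL (by rw [← e]))
          (fun e => hL.1 (by rw [← e])))
      have h0 := hcon ⟨0, by omega⟩
      have h1' := hcon ⟨1, by omega⟩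
      have h2' := hcon ⟨2, by omega⟩
      have h3' := hcon ⟨3, by omega⟩
      simp only [ne_eq] at h0 h1' h2' h3'
      omega
    let ka : Fin (n / 2) := ⟨a.val / 2, hlast a haL⟩
    obtain ⟨x, hx, hxs, hxa⟩ : ∃ x : Fin n, x.val / 2 = a.val / 2 ∧ pairSwap n ka = swap a x ∧ x ≠ a := by
      have hk : a.val / 2 < n / 2 := hlast a haL
      rcases Nat.mod_two_eq_zero_or_one a.val with h0 | h0
      · refine ⟨pairPoint' n ka, by simp [ka, pairPoint']; omega, ?_, ?_⟩
        · rw [pairSwap]; congr 1; exact Fin.ext (by simp [ka, pairPoint]; omega)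
        · simp [ka, pairPoint', Fin.ext_iff]; omega
      · refine ⟨pairPoint n ka, by simp [ka, pairPoint], ?_, ?_⟩
        · rw [pairSwap, Equiv.swap_comm]; congr 1; exact Fin.ext (by simp [ka, pairPoint']; omega)
        · simp [ka, pairPoint, Fin.ext_iff]; omega
    have hxn : x.val ≠ n - 1 := by
      intro h
      have := hlast a haL
      omega
    have ht : pairSwap n ka * pairSwap n l ∈ M := hE (dyadic_double_swap_mem ka l)
    refine ⟨_, mul_mem (mul_mem ht huM) (mul_mem ht huM), ?_⟩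
    rw [hu', hxs, pairSwap]
    have hl_ne : ∀ w : Fin n, l.val ≠ w.val / 2 → pairPoint n l ≠ w ∧ pairPoint' n l ≠ w :=
      fun w hw => ⟨fun e => hw (by rw [← e]; exact (pairPoint_div l).symm),
        fun e => hw (by rw [← e]; simp [pairPoint']; omega)⟩
    have hx_ne : ∀ w : Fin n, (w.val = n - 1 ∨ a.val / 2 ≠ w.val / 2) → x ≠ w := fun w hw e => by
      subst e
      omega
    refine isThreeCycle_of_double_swaps hxa.symm hab (hx_ne b hb)
      ⟨(hl_ne a hl0).1, (hl_ne x (by omega)).1, (hl_ne b hl1).1⟩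
      ⟨(hl_ne a hl0).2, (hl_ne x (by omega)).2, (hl_ne b hl1).2⟩
      ⟨hac.symm, (hx_ne c hc).symm, hbc.symm, (hl_ne c hl2).1.symm, (hl_ne c hl2).2.symm⟩
      ⟨had.symm, (hx_ne d hd).symm, hbd.symm, (hl_ne d hl3).1.symm, (hl_ne d hl3).2.symm⟩
  have hnL : ∀ w : Fin n, g p ≠ w → w.val ≠ n - 1 := fun w hw h => hw (hp0.trans (Fin.ext h.symm))
  by_cases hab : (g p').val / 2 ≠ (g q).val / 2 ∧ (g p').val / 2 ≠ (g q').val / 2
  · exact key (g p') (g p) (g q) (g q') (by rw [hu2, Equiv.swap_comm (g p)]) hne.1.symm hne.2.2.2.1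
      hne.2.2.2.2.1 hne.2.1 hne.2.2.1 hne.2.2.2.2.2 (hnL _ hne.1) (Or.inl (by rw [hp0]))
      (Or.inr hab.1) (Or.inr hab.2)
  · have h1 := hnL _ hne.1
    have h2 := hnL _ hne.2.1
    have h3 := hnL _ hne.2.2.1
    have v1 : (g p').val ≠ (g q).val := fun e => hne.2.2.2.1 (Fin.ext e)
    have v2 : (g p').val ≠ (g q').val := fun e => hne.2.2.2.2.1 (Fin.ext e)
    have v3 : (g q).val ≠ (g q').val := fun e => hne.2.2.2.2.2 (Fin.ext e)
    have hd : Perm.Disjoint (swap (g p) (g p')) (swap (g q) (g q')) := by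
      intro x
      by_cases hx : x = g p ∨ x = g p'
      · right
        rcases hx with rfl | rfl
        · exact Equiv.swap_apply_of_ne_of_ne hne.2.1 hne.2.2.1
        · exact Equiv.swap_apply_of_ne_of_ne hne.2.2.2.1 hne.2.2.2.2.1
      · left
        push Not at hx
        exact Equiv.swap_apply_of_ne_of_ne hx.1 hx.2
    rw [not_and_or, not_ne_iff, not_ne_iff] at hab
    rcases hab with h | h
    · exact key (g q') (g q) (g p) (g p')
        (by rw [hu2, hd.commute.eq, Equiv.swap_comm (g q)])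
        hne.2.2.2.2.2.symm hne.2.2.1.symm hne.2.2.2.2.1.symm hne.2.1.symm hne.2.2.2.1.symm hne.1 h3
        (Or.inr (by omega)) (Or.inl (by rw [hp0])) (Or.inr (by omega))
    · exact key (g q) (g q') (g p) (g p')
        (by rw [hu2, hd.commute.eq])
        hne.2.2.2.2.2 hne.2.1.symm hne.2.2.2.1.symm hne.2.2.1.symm hne.2.2.2.2.1.symm hne.1 h2
        (Or.inr (by omega)) (Or.inl (by rw [hp0])) (Or.inr (by omega))

/-- For `n = 2 ^ k + 1` an overgroup of the even dyadic subgroup fixes the last point or contains `A_n`. -/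
theorem fix_last_or_alt_le {k : ℕ} (hk : 2 ≤ k) (hn : n = 2 ^ k + 1)
    (M : Subgroup (Perm (Fin n))) (hE : dyadicSubgroup n ⊓ alternatingGroup (Fin n) ≤ M) :
    M ≤ MulAction.stabilizer (Perm (Fin n)) (⟨n - 1, Nat.sub_lt (hn ▸ Nat.succ_pos _) Nat.one_pos⟩ : Fin n) ∨
      alternatingGroup (Fin n) ≤ M := by
  have hn0 : 0 < n := hn ▸ Nat.succ_pos _
  by_cases hfix : M ≤ MulAction.stabilizer (Perm (Fin n)) (⟨n - 1, by omega⟩ : Fin n)
  · exact Or.inl hfix
  right
  set L : Fin n := ⟨n - 1, by omega⟩ with hL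
  obtain ⟨g0, hg0, hmove⟩ := SetLike.not_le_iff_exists.1 hfix
  have h4 : 4 ≤ 2 ^ k := le_trans (by norm_num) (Nat.pow_le_pow_right (by norm_num) hk)
  have hlow : ∀ i : Fin n, i ≠ L → i.val < 2 ^ k := fun i hi => by
    rw [hL, Ne, Fin.ext_iff] at hi
    simp only at hi
    omega
  have hEtr : ∀ i j : Fin n, i ≠ L → j ≠ L → ∃ e ∈ M, e i = j ∧ e L = L := by
    intro i j hi hj
    obtain ⟨e, he, hej⟩ := dyadicAlt_transitive (k := k) (by omega) (by omega)
      (by rw [pow_succ]; omega) i j (hlow i hi) (hlow j hj)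
    exact ⟨e, hE he, hej, pairStab_fix_last (dyadicSubgroup_le_pairStab he.1) (by
      have : 2 ^ k % 2 = 0 := by
        rw [Nat.pow_mod]; simp [show k ≠ 0 by omega]
      simp only [hL]; omega)⟩
  have hL' : g0 L ≠ L := hmove
  have toL : ∀ i : Fin n, ∃ g ∈ M, g i = L := by
    intro i
    by_cases hi : i = L
    · exact ⟨1, one_mem _, by simp [hi]⟩
    · obtain ⟨e, he, h, _⟩ := hEtr i (g0 L) hi hL'
      exact ⟨g0⁻¹ * e, mul_mem (inv_mem hg0) he, by rw [Perm.mul_apply, h, ← Perm.mul_apply, inv_mul_cancel, Perm.one_apply]⟩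
  have htr : ∀ i j : Fin n, ∃ g ∈ M, g i = j := by
    intro i j
    obtain ⟨a, ha, hai⟩ := toL i
    obtain ⟨b, hb, hbj⟩ := toL j
    exact ⟨b⁻¹ * a, mul_mem (inv_mem hb) ha, by rw [Perm.mul_apply, hai, ← hbj, ← Perm.mul_apply, inv_mul_cancel, Perm.one_apply]⟩
  have h2 : MulAction.IsMultiplyPretransitive M (Fin n) 2 := by
    rw [MulAction.is_two_pretransitive_iff]
    intro a b c d hab hcd
    obtain ⟨x, hx, hxa⟩ := toL a
    obtain ⟨y, hy, hyc⟩ := toL c
    have hb : x b ≠ L := fun h => hab (x.injective (hxa.trans h.symm))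
    have hd : y d ≠ L := fun h => hcd (y.injective (hyc.trans h.symm))
    obtain ⟨e, he, heb, heL⟩ := hEtr (x b) (y d) hb hd
    refine ⟨⟨y⁻¹ * e * x, mul_mem (mul_mem (inv_mem hy) he) hx⟩, ?_, ?_⟩
    · show (y⁻¹ * e * x) a = c
      rw [Perm.mul_apply, Perm.mul_apply, hxa, heL, ← hyc, ← Perm.mul_apply, inv_mul_cancel, Perm.one_apply]
    · show (y⁻¹ * e * x) b = d
      rw [Perm.mul_apply, Perm.mul_apply, heb, ← Perm.mul_apply, inv_mul_cancel, Perm.one_apply]
  obtain ⟨g, hg, h3⟩ := exists_three_cycle_of_transitive hk hn M hE htr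
  exact Perm.alternatingGroup_le_of_isPreprimitive_of_isThreeCycle_mem
    (MulAction.isPreprimitive_of_is_two_pretransitive h2) h3 hg

/-- Permutations preserving the partition of `Fin n` into the first `h` points and the rest. -/
def splitStab (n h : ℕ) : Subgroup (Perm (Fin n)) where
  carrier := {σ | ∀ i j : Fin n, ((σ i).val < h ↔ (σ j).val < h) ↔ (i.val < h ↔ j.val < h)}
  one_mem' := fun _ _ => Iff.rfl
  mul_mem' := fun {a b} ha hb i j => (ha (b i) (b j)).trans (hb i j)
  inv_mem' := fun {a} ha i j => by simpa using (ha (a⁻¹ i) (a⁻¹ j)).symm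

theorem swap_mul_swap_mem_of_fix {h : ℕ} {a b c : Fin n}
    (hab : a.val < h ↔ b.val < h) (hac : a.val < h ↔ c.val < h) :
    swap a b * swap a c ∈ splitStab n h := by
  have : ∀ u v : Fin n, (u.val < h ↔ v.val < h) → swap u v ∈ splitStab n h := by
    intro u v huv i j
    have key : ∀ w : Fin n, ((swap u v w).val < h ↔ w.val < h) := fun w => by
      rw [Equiv.swap_apply_def]; split_ifs with h1 h2
      · subst h1; exact huv.symm
      · subst h2; exact huv
      · rfl
    rw [key, key]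
  exact mul_mem (this a b hab) (this a c hac)

/-- If `swap p x * swap p q ∈ J` for all other `x`, then `J` contains the alternating group. -/
theorem alt_le_of_base (J : Subgroup (Perm (Fin n))) {p q : Fin n} (hpq : p ≠ q)
    (hJ : ∀ x, x ≠ p → x ≠ q → swap p x * swap p q ∈ J) : alternatingGroup (Fin n) ≤ J := by
  have h1 : ∀ x, x ≠ p → swap p x * swap p q ∈ J := by
    intro x hx
    by_cases hq : x = q
    · rw [hq, Equiv.swap_mul_self]; exact one_mem _
    · exact hJ x hx hq
  have h2 : ∀ x y, x ≠ p → y ≠ p → swap p x * swap p y ∈ J := by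
    intro x y hx hy
    have := mul_mem (h1 x hx) (inv_mem (h1 y hy))
    simpa [mul_assoc] using this
  suffices ∀ σ : Perm (Fin n), (Perm.sign σ = 1 → σ ∈ J) ∧ (Perm.sign σ = -1 → swap p q * σ ∈ J) from
    fun σ hσ => (this σ).1 hσ
  intro σ
  induction σ using Perm.swap_induction_on with
  | one => exact ⟨fun _ => one_mem J, fun h => absurd h (by simp)⟩
  | swap_mul f a b hab ih =>
    -- every transposition, multiplied by `swap p q` on either side, lies in `J`
    have hl : swap p q * swap a b ∈ J ∧ swap a b * swap p q ∈ J := by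
      have key : ∀ a b, a ≠ b → a ≠ p → swap p q * swap a b ∈ J ∧ swap a b * swap p q ∈ J := by
        intro a b hab ha
        by_cases hb : b = p
        · subst hb; rw [Equiv.swap_comm a]; exact ⟨h2 q a (Ne.symm hpq) ha, h2 a q ha (Ne.symm hpq)⟩
        · have e : swap a b = swap p a * swap p b * swap p a := by
            rw [show swap p a * swap p b * swap p a = swap p a * swap p b * (swap p a)⁻¹ by
              rw [Equiv.swap_inv], ← Equiv.swap_apply_apply, Equiv.swap_apply_left,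
              Equiv.swap_apply_of_ne_of_ne hb hab.symm]
          rw [e]
          constructor
          · have := mul_mem (h2 q a (Ne.symm hpq) ha) (h2 b a hb ha)
            simpa [mul_assoc] using this
          · have := mul_mem (h2 a b ha hb) (h2 a q ha (Ne.symm hpq))
            simpa [mul_assoc] using this
      by_cases ha : a = p
      · rw [Equiv.swap_comm a b]
        exact key b a (Ne.symm hab) (ha ▸ Ne.symm hab)
      · exact key a b hab ha
    constructor
    · intro hs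
      rw [map_mul, Perm.sign_swap hab] at hs
      have hf : Perm.sign f = -1 := by
        rcases Int.units_eq_one_or (Perm.sign f) with h | h
        · rw [h] at hs; exact absurd hs (by decide)
        · exact h
      have := mul_mem hl.2 (ih.2 hf)
      simpa [mul_assoc] using this
    · intro hs
      rw [map_mul, Perm.sign_swap hab] at hs
      have hf : Perm.sign f = 1 := by
        rcases Int.units_eq_one_or (Perm.sign f) with h | h
        · exact h
        · rw [h] at hs; exact absurd hs (by decide)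
      rw [← mul_assoc]
      exact mul_mem hl.1 (ih.1 hf)

/-- A suitable splitting preserved by the dyadic subgroup. -/
theorem exists_split (h7 : 7 ≤ n) (hne : ¬ ∃ k, 2 ≤ k ∧ n = 2 ^ k + 1) :
    ∃ h : ℕ, 4 ≤ h ∧ h < n ∧ (n % 2 = 1 → h + 3 ≤ n) ∧ dyadicSubgroup n ≤ splitStab n h := by
  set k := Nat.log 2 n with hk
  have h1 : 2 ^ k ≤ n := Nat.pow_log_le_self 2 (by omega)
  have h2 : n < 2 ^ (k + 1) := Nat.lt_pow_succ_log_self (by norm_num) n
  have hk2 : 2 ≤ k := by
    by_contra h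
    have : 2 ^ (k + 1) ≤ 4 := le_trans (Nat.pow_le_pow_right (by norm_num) (by omega : k + 1 ≤ 2)) le_rfl
    omega
  obtain ⟨k', hk'⟩ : ∃ k', k = k' + 1 := ⟨k - 1, by omega⟩
  have he : 2 ^ k % 2 = 0 := by rw [Nat.pow_mod]; simp [show k ≠ 0 by omega]
  by_cases hpow : n = 2 ^ k
  · rw [hk'] at hpow
    refine ⟨2 ^ k', ?_, ?_, ?_, fun σ hσ => dyadic_halves hpow hσ⟩
    · rw [pow_succ] at hpow; omega
    · rw [pow_succ] at hpow; omega
    · intro h; rw [hk', pow_succ] at he; omega
  · refine ⟨2 ^ k, le_trans (by norm_num) (Nat.pow_le_pow_right (by norm_num) hk2), by omega, ?_, ?_⟩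
    · intro h
      by_contra hc
      exact hne ⟨k, hk2, by omega⟩
    · intro σ hσ i j
      have key : ∀ i : Fin n, ((σ i).val < 2 ^ k ↔ i.val < 2 ^ k) := fun i =>
        ⟨fun h => by simpa using dyadic_lt_pow h1 h2 (inv_mem hσ) (σ i) h, dyadic_lt_pow h1 h2 hσ i⟩
      rw [key, key]

theorem alt_le_split_sup_pair {h : ℕ} (h4 : 4 ≤ h) (hn : h < n) (hodd : n % 2 = 1 → h + 3 ≤ n) :
    alternatingGroup (Fin n) ≤
      (splitStab n h ⊓ alternatingGroup (Fin n)) ⊔ (pairStab n ⊓ alternatingGroup (Fin n)) := by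
  set J := (splitStab n h ⊓ alternatingGroup (Fin n)) ⊔ (pairStab n ⊓ alternatingGroup (Fin n))
  let p : Fin n := ⟨0, by omega⟩
  let q : Fin n := ⟨1, by omega⟩
  have hin : ∀ a b c : Fin n, a ≠ b → a ≠ c → (a.val < h ↔ b.val < h) → (a.val < h ↔ c.val < h) →
      swap a b * swap a c ∈ J := fun a b c hab hac h1 h2 =>
    Subgroup.mem_sup_left ⟨swap_mul_swap_mem_of_fix h1 h2, Perm.mem_alternatingGroup.2 (by
      rw [map_mul, Perm.sign_swap hab, Perm.sign_swap hac]; decide)⟩
  have hconj : ∀ g ∈ J, g p = p → g q = q → ∀ x, swap p x * swap p q ∈ J →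
      swap p (g x) * swap p q ∈ J := by
    intro g hg hgp hgq x hx
    have := mul_mem (mul_mem hg hx) (inv_mem hg)
    have e : swap p (g x) * swap p q = g * (swap p x * swap p q) * g⁻¹ := by
      rw [show g * (swap p x * swap p q) * g⁻¹ = (g * swap p x * g⁻¹) * (g * swap p q * g⁻¹) by group,
        ← Equiv.swap_apply_apply, ← Equiv.swap_apply_apply, hgp, hgq]
    rwa [e]
  -- all points in pairs
  have hpairs : ∀ x : Fin n, x ≠ p → x ≠ q → x.val / 2 < n / 2 → swap p x * swap p q ∈ J := by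
    intro x hxp hxq hx
    simp only [p, q, ne_eq, Fin.ext_iff] at hxp hxq
    by_cases hxh : x.val < h
    · exact hin p x q (by simp [p, Fin.ext_iff]; omega) (by simp [p, q, Fin.ext_iff])
        (by simp [p]; omega) (by simp [p, q]; omega)
    let l : Fin (n / 2) := ⟨x.val / 2, hx⟩
    let k1 : Fin (n / 2) := ⟨1, by omega⟩
    have hl1 : k1 ≠ l := by simp [k1, l, Fin.ext_iff]; omega
    let g : Perm (Fin n) := swap (pairPoint n k1) (pairPoint n l) * swap (pairPoint' n k1) (pairPoint' n l)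
    have hgval : ∀ i : Fin n, (g i).val = if i.val / 2 = 1 then 2 * (x.val / 2) + i.val % 2 else
        if i.val / 2 = x.val / 2 then 2 + i.val % 2 else i.val := by
      intro i
      simp only [g, Perm.mul_apply, Equiv.swap_apply_def, pairPoint, pairPoint', k1, l, Fin.ext_iff]
      split_ifs <;> first | omega | (simp only [Fin.val_mk] at *; omega)
    have hg : g ∈ J := by
      refine Subgroup.mem_sup_right ⟨?_, Perm.mem_alternatingGroup.2 ?_⟩
      · intro i j
        rw [hgval, hgval]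
        split_ifs <;> omega
      · rw [map_mul, Perm.sign_swap, Perm.sign_swap]
        · decide
        · simp [pairPoint', Fin.ext_iff, k1, l]; omega
        · simp [pairPoint, Fin.ext_iff, k1, l]; omega
    let r : Fin n := ⟨2 + x.val % 2, by omega⟩
    have hgr : g r = x := Fin.ext (by rw [hgval]; simp only [show r.val = 2 + x.val % 2 from rfl]; split_ifs <;> omega)
    have hgp : g p = p := Fin.ext (by rw [hgval]; simp only [show p.val = 0 from rfl]; rw [if_neg (by omega), if_neg (by omega)])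
    have hgq : g q = q := Fin.ext (by rw [hgval]; simp only [show q.val = 1 from rfl]; rw [if_neg (by omega), if_neg (by omega)])
    have := hconj g hg hgp hgq r (hin p r q (by simp [p, r, Fin.ext_iff]; omega)
      (by simp [p, q, Fin.ext_iff]) (by simp [p, r]; omega) (by simp [p, q]; omega))
    rwa [hgr] at this
  refine alt_le_of_base J (p := p) (q := q) (by simp [p, q, Fin.ext_iff]) fun x hxp hxq => ?_
  by_cases hx : x.val / 2 < n / 2
  · exact hpairs x hxp hxq hx
  · have hodd' := hodd (by omega)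
    let y : Fin n := ⟨n - 2, by omega⟩
    let y' : Fin n := ⟨n - 3, by omega⟩
    have hy : swap p y * swap p q ∈ J := hpairs y (by simp [p, y, Fin.ext_iff]; omega)
      (by simp [q, y, Fin.ext_iff]; omega) (by simp [y]; omega)
    let g := swap y x * swap y y'
    have hg : g⁻¹ ∈ J := inv_mem (hin y x y' (by simp [y, Fin.ext_iff]; omega)
      (by simp [y, y', Fin.ext_iff]; omega) (by simp [y]; omega) (by simp [y, y']; omega))
    have hx2 : x.val = n - 1 := by omega
    have hxp' : x.val ≠ 0 := fun e => hxp (Fin.ext e)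
    have h1 : ∀ w : Fin n, w.val < 2 → g⁻¹ w = w := by
      intro w hw
      have e1 : swap y y' w = w := Equiv.swap_apply_of_ne_of_ne
        (by simp [y, Fin.ext_iff]; omega) (by simp [y', Fin.ext_iff]; omega)
      have e2 : swap y x w = w := Equiv.swap_apply_of_ne_of_ne
        (by simp [y, Fin.ext_iff]; omega) (by rw [Ne, Fin.ext_iff]; omega)
      rw [Perm.inv_eq_iff_eq, Perm.mul_apply, e1, e2]
    have h2 : g⁻¹ y = x := by
      have e1 : swap y y' x = x := Equiv.swap_apply_of_ne_of_ne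
        (by simp [y, Fin.ext_iff]; omega) (by simp [y', Fin.ext_iff]; omega)
      rw [Perm.inv_eq_iff_eq, Perm.mul_apply, e1, Equiv.swap_apply_right]
    have := hconj g⁻¹ hg (h1 p (by simp [p])) (h1 q (by simp [q])) y hy
    rwa [h2] at this

theorem split_not_top {h : ℕ} (h4 : 4 ≤ h) (hn : h < n) :
    ∃ g ∈ alternatingGroup (Fin n), g ∉ splitStab n h := by
  refine ⟨swap (⟨0, by omega⟩ : Fin n) ⟨1, by omega⟩ * swap (⟨0, by omega⟩ : Fin n) ⟨h, hn⟩,
    Perm.mem_alternatingGroup.2 ?_, fun hs => ?_⟩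
  · rw [map_mul, Perm.sign_swap (by simp [Fin.ext_iff]), Perm.sign_swap (by simp [Fin.ext_iff]; omega)]
    decide
  · have := hs ⟨0, by omega⟩ ⟨1, by omega⟩
    simp [Equiv.swap_apply_def, Fin.ext_iff, show (1 : ℕ) ≠ h by omega, show h ≠ 0 by omega,
      show h ≠ 1 by omega] at this
    omega

theorem pairStab_not_top (h4 : 4 ≤ n) : ∃ g ∈ alternatingGroup (Fin n), g ∉ pairStab n := by
  refine ⟨swap (⟨0, by omega⟩ : Fin n) ⟨1, by omega⟩ * swap (⟨0, by omega⟩ : Fin n) ⟨2, by omega⟩,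
    Perm.mem_alternatingGroup.2 ?_, fun hs => ?_⟩
  · rw [map_mul, Perm.sign_swap (by simp [Fin.ext_iff]), Perm.sign_swap (by simp [Fin.ext_iff])]
    decide
  · have := hs ⟨0, by omega⟩ ⟨1, by omega⟩
    simp [Equiv.swap_apply_def, Fin.ext_iff] at this

section Abstract

variable {G : Type*} [Group G] [Finite G]

/-- `P` lies in exactly one maximal subgroup. -/
def HasUniqueMaximalOver (P : Subgroup G) : Prop := ∃! M : Subgroup G, IsCoatom M ∧ P ≤ M

theorem hasUniqueMaximalOver_of_top_le {P T : Subgroup G} (hT : T ≠ ⊤) (hP : P ≤ T)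
    (h : ∀ M : Subgroup G, P ≤ M → M ≠ ⊤ → M ≤ T) : HasUniqueMaximalOver P := by
  refine ⟨T, ⟨⟨hT, fun M hM => by_contra fun hne => ?_⟩, hP⟩, fun M hM => ?_⟩
  · exact absurd (h M (le_trans hP hM.le) hne) (not_le_of_gt hM)
  · exact ((hM.1.le_iff.1 (h M hM.2 hM.1.1)).resolve_left hT).symm

theorem not_hasUniqueMaximalOver {P A B : Subgroup G} (hA : A ≠ ⊤) (hB : B ≠ ⊤) (hPA : P ≤ A)
    (hPB : P ≤ B) (hAB : A ⊔ B = ⊤) : ¬ HasUniqueMaximalOver P := by
  rintro ⟨M, ⟨hM, hPM⟩, huniq⟩
  obtain ⟨MA, hMA, hA'⟩ := (IsCoatomic.eq_top_or_exists_le_coatom A).resolve_left hA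
  obtain ⟨MB, hMB, hB'⟩ := (IsCoatomic.eq_top_or_exists_le_coatom B).resolve_left hB
  have e1 := huniq MA ⟨hMA, le_trans hPA hA'⟩
  have e2 := huniq MB ⟨hMB, le_trans hPB hB'⟩
  exact hM.1 (top_le_iff.1 (hAB ▸ sup_le (e1 ▸ hA') (e2 ▸ hB')))

theorem hasUniqueMaximalOver_sylow_iff {p : ℕ} [Fact p.Prime] (P Q : Sylow p G) :
    HasUniqueMaximalOver (P : Subgroup G) ↔ HasUniqueMaximalOver (Q : Subgroup G) := by
  suffices ∀ P Q : Sylow p G, HasUniqueMaximalOver (P : Subgroup G) →
      HasUniqueMaximalOver (Q : Subgroup G) from ⟨this P Q, this Q P⟩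
  intro P Q hP
  obtain ⟨g, rfl⟩ := MulAction.exists_smul_eq G P Q
  obtain ⟨M, ⟨hM, hPM⟩, huniq⟩ := hP
  let e : Subgroup G ≃o Subgroup G := (MulAut.conj g).mapSubgroup
  have he : ((g • P : Sylow p G) : Subgroup G) = e P := Sylow.coe_subgroup_smul ..
  refine ⟨e M, ⟨e.isCoatom_iff M |>.2 hM, he ▸ e.monotone hPM⟩, fun M' hM' => ?_⟩
  obtain ⟨N, rfl⟩ := e.surjective M'
  rw [huniq N ⟨(e.isCoatom_iff N).1 hM'.1, e.le_iff_le.1 (he ▸ hM'.2)⟩]

end Abstract

/-- The dichotomy in `A_n`. -/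
theorem alt_unique_maximal_iff (hn : 5 ≤ n) (h6 : n ≠ 6) (R : Sylow 2 (alternatingGroup (Fin n))) :
    HasUniqueMaximalOver (R : Subgroup (alternatingGroup (Fin n))) ↔
      ∃ k : ℕ, 2 ≤ k ∧ n = 2 ^ k + 1 := by
  rw [hasUniqueMaximalOver_sylow_iff R (dyadicAltSylow n), dyadicAltSylow, Sylow.coe_ofCard]
  constructor
  · intro hu
    by_contra hne
    have h7 : 7 ≤ n := by
      by_contra h
      exact hne ⟨2, le_rfl, by norm_num; omega⟩
    obtain ⟨h, h4, hh, hodd, hD⟩ := exists_split h7 hne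
    obtain ⟨g1, hg1, hg1'⟩ := split_not_top (n := n) h4 hh
    obtain ⟨g2, hg2, hg2'⟩ := pairStab_not_top (n := n) (by omega)
    refine not_hasUniqueMaximalOver (A := (splitStab n h).subgroupOf _)
      (B := (pairStab n).subgroupOf _) (fun e => hg1' ?_) (fun e => hg2' ?_)
      (fun x hx => hD hx) (fun x hx => dyadicSubgroup_le_pairStab hx) ?_ hu
    · have : (⟨g1, hg1⟩ : alternatingGroup (Fin n)) ∈ (splitStab n h).subgroupOf _ := e ▸ trivial
      exact this
    · have : (⟨g2, hg2⟩ : alternatingGroup (Fin n)) ∈ (pairStab n).subgroupOf _ := e ▸ trivial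
      exact this
    · refine top_le_iff.1 ?_
      rw [← Subgroup.map_subtype_le_map_subtype, Subgroup.map_sup, Subgroup.subgroupOf_map_subtype,
        Subgroup.subgroupOf_map_subtype, ← MonoidHom.range_eq_map, Subgroup.range_subtype]
      exact alt_le_split_sup_pair h4 hh hodd
  · rintro ⟨k, hk, hnk⟩
    let L : Fin n := ⟨n - 1, by omega⟩
    refine hasUniqueMaximalOver_of_top_le
      (T := (MulAction.stabilizer (Perm (Fin n)) L).subgroupOf _) ?_ ?_ ?_
    · intro e
      have hg : swap L ⟨0, by omega⟩ * swap L ⟨1, by omega⟩ ∈ alternatingGroup (Fin n) :=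
        Perm.mem_alternatingGroup.2 (by
          rw [map_mul, Perm.sign_swap (by simp [L, Fin.ext_iff]; omega),
            Perm.sign_swap (by simp [L, Fin.ext_iff]; omega)]; decide)
      have h : (⟨_, hg⟩ : alternatingGroup (Fin n)) ∈
          (MulAction.stabilizer (Perm (Fin n)) L).subgroupOf _ := e ▸ trivial
      have h' : (swap L ⟨0, by omega⟩ * swap L ⟨1, by omega⟩ : Perm (Fin n)) L = L := h
      simp [Equiv.swap_apply_def, L, Fin.ext_iff, show n - 1 ≠ 0 by omega, show n - 1 ≠ 1 by omega,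
        show (1 : ℕ) ≠ n - 1 by omega] at h'
    · intro x hx
      exact pairStab_fix_last (dyadicSubgroup_le_pairStab hx) (by
        have : 2 ^ k % 2 = 0 := by rw [Nat.pow_mod]; simp [show k ≠ 0 by omega]
        simp only [L]; omega)
    · intro M hM hne
      rcases fix_last_or_alt_le hk hnk (M.map (alternatingGroup (Fin n)).subtype)
        (fun x hx => ⟨⟨x, hx.2⟩, hM hx.1, rfl⟩) with h | h
      · exact fun x hx => h ⟨x, hx, rfl⟩
      · exact absurd (top_le_iff.1 fun x _ => by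
          obtain ⟨y, hy, he⟩ := h x.2
          exact (Subtype.ext he : y = x) ▸ hy) hne

/-- The dichotomy in `S_n`. -/
theorem perm_unique_maximal_iff (hn : 5 ≤ n) (h6 : n ≠ 6) (R : Sylow 2 (Perm (Fin n))) :
    HasUniqueMaximalOver (R : Subgroup (Perm (Fin n))) ↔ ∃ k : ℕ, 2 ≤ k ∧ n = 2 ^ k + 1 := by
  rw [hasUniqueMaximalOver_sylow_iff R (dyadicSylow n), dyadicSylow, Sylow.coe_ofCard]
  let k0 : Fin (n / 2) := ⟨0, by omega⟩
  have htop : ∀ M : Subgroup (Perm (Fin n)), alternatingGroup (Fin n) ≤ M → pairSwap n k0 ∈ M →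
      M = ⊤ := by
    intro M hA hs
    refine top_le_iff.1 fun x _ => ?_
    rcases Int.units_eq_one_or (Perm.sign x) with h | h
    · exact hA (Perm.mem_alternatingGroup.2 h)
    · have h1 : pairSwap n k0 * x ∈ M := hA (Perm.mem_alternatingGroup.2 (by
        rw [map_mul, sign_pairSwap, h]; decide))
      simpa using mul_mem (inv_mem hs) h1
  constructor
  · intro hu
    by_contra hne
    have h7 : 7 ≤ n := by
      by_contra h
      exact hne ⟨2, le_rfl, by norm_num; omega⟩
    obtain ⟨h, h4, hh, hodd, hD⟩ := exists_split h7 hne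
    obtain ⟨g1, _, hg1'⟩ := split_not_top (n := n) h4 hh
    obtain ⟨g2, _, hg2'⟩ := pairStab_not_top (n := n) (by omega)
    refine not_hasUniqueMaximalOver (A := splitStab n h) (B := pairStab n) (fun e => hg1' (e ▸ trivial))
      (fun e => hg2' (e ▸ trivial)) hD dyadicSubgroup_le_pairStab (htop _ ?_ ?_) hu
    · exact le_trans (alt_le_split_sup_pair h4 hh hodd) (sup_le_sup inf_le_left inf_le_left)
    · exact Subgroup.mem_sup_right (pairSwap_mem_pairStab k0)
  · rintro ⟨k, hk, hnk⟩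
    let L : Fin n := ⟨n - 1, by omega⟩
    refine hasUniqueMaximalOver_of_top_le (T := MulAction.stabilizer (Perm (Fin n)) L) ?_ ?_ ?_
    · intro e
      have h : swap L ⟨0, by omega⟩ ∈ MulAction.stabilizer (Perm (Fin n)) L := e ▸ trivial
      have h' : swap L (⟨0, by omega⟩ : Fin n) L = L := h
      simp [L, Fin.ext_iff] at h'
      omega
    · intro x hx
      exact pairStab_fix_last (dyadicSubgroup_le_pairStab hx) (by
        have : 2 ^ k % 2 = 0 := by rw [Nat.pow_mod]; simp [show k ≠ 0 by omega]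
        simp only [L]; omega)
    · intro M hM hne
      rcases fix_last_or_alt_le hk hnk M (le_trans inf_le_left hM) with h | h
      · exact h
      · exact absurd (htop M h (hM (pairSwap_mem k0))) hne

end Cfsg.Agent.H62
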